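import Groth.Agent.L26.H1Bound.Deform
import Mathlib.RingTheory.Ideal.KrullsHeightTheorem
import Mathlib.RingTheory.Nakayama

/-!
# The small extension of an ideal primary to the maximal ideal, and its quotients by hyperplanes
-/

set_option autoImplicit false
set_option linter.style.haveILetI false
set_option linter.unusedSectionVars false

universe u

open IsLocalRing

noncomputable section

namespace Groth.Agent.L26.H1Bound

section

variable {K : Type u} [Field K] {O : Type u} [CommRing O] [IsLocalRing O] [IsNoetherianRing O] [Algebra K O]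

/-- The extension of `O ⧸ I` by `I ⧸ 𝔪 I`, and the bound on the dimension. -/
theorem exists_smallExt (εa : O →ₐ[K] K) (I : Ideal O) (hImx : I ≤ maximalIdeal O)
    (hrad : ∀ p : Ideal O, p.IsPrime → I ≤ p → p = maximalIdeal O) :
    ∃ (J : Ideal O) (hJI : J ≤ I) (a : O ⧸ J →ₐ[K] K) (m : ℕ) (v : Fin m → O ⧸ J)
      (co : Fin m → (O ⧸ J →ₗ[K] K)),
      SmallExt (Ideal.Quotient.factorₐ K hJI) a v co ∧ ringKrullDim O ≤ ((m : ℕ∞) : WithBot ℕ∞) := by
  let mx : Ideal O := maximalIdeal O
  have hkerε : RingHom.ker εa.toRingHom = mx :=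
    eq_maximalIdeal (RingHom.ker_isMaximal_of_surjective _ (surjective_aug εa))
  let J : Ideal O := mx * I
  have hJI : J ≤ I := Ideal.mul_le_right
  let ψ : O ⧸ J →ₐ[K] O ⧸ I := Ideal.Quotient.factorₐ K hJI
  let a : O ⧸ J →ₐ[K] K := Ideal.Quotient.liftₐ J εa fun x hx => by
    have := hImx (hJI hx)
    change x ∈ mx at this
    rwa [← hkerε] at this
  have hann : ∀ (x y : O ⧸ J), a x = 0 → ψ y = 0 → x * y = 0 := by
    intro x y
    obtain ⟨x, rfl⟩ := Ideal.Quotient.mk_surjective x
    obtain ⟨y, rfl⟩ := Ideal.Quotient.mk_surjective y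
    intro hx hy
    refine (map_mul (Ideal.Quotient.mk J) x y).symm.trans (Ideal.Quotient.eq_zero_iff_mem.2 (Ideal.mul_mem_mul ?_ ?_))
    · exact (hkerε ▸ hx : x ∈ mx)
    · exact Ideal.Quotient.eq_zero_iff_mem.1 hy
  have hsmul : ∀ (r y : O ⧸ J), ψ y = 0 → r * y = a r • y := fun r y hy => by
    have h := hann (r - algebraMap K (O ⧸ J) (a r)) y (by simp) hy
    rw [sub_mul, sub_eq_zero] at h
    rw [h, Algebra.smul_def]
  let V : Submodule K (O ⧸ J) := LinearMap.ker ψ.toLinearMap
  haveI : Module.Finite K V := by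
    obtain ⟨s, hs⟩ := IsNoetherian.noetherian I
    have hV : V = Submodule.span K (Ideal.Quotient.mk J '' (s : Set O)) := le_antisymm (fun x hx => by
      obtain ⟨x, rfl⟩ := Ideal.Quotient.mk_surjective x
      have hxI : x ∈ Submodule.span O (s : Set O) := hs.symm ▸ Ideal.Quotient.eq_zero_iff_mem.1 hx
      clear hx
      induction hxI using Submodule.span_induction with
      | mem y hy => exact Submodule.subset_span ⟨y, hy, rfl⟩
      | zero => rw [map_zero]; exact Submodule.zero_mem _
      | add y z _ _ hy hz => rw [map_add]; exact Submodule.add_mem _ hy hz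
      | smul r y hy' hy =>
        rw [smul_eq_mul, map_mul, hsmul _ _ (Ideal.Quotient.eq_zero_iff_mem.2 (hs ▸ hy'))]
        exact Submodule.smul_mem _ _ hy) (Submodule.span_le.2 (by
      rintro _ ⟨x, hx, rfl⟩
      exact Ideal.Quotient.eq_zero_iff_mem.2 (hs ▸ Submodule.subset_span hx)))
    refine Module.Finite.iff_fg.2 ?_
    rw [hV]
    exact Submodule.fg_span (s.finite_toSet.image _)
  let m := Module.finrank K V
  let bs := Module.finBasis K V
  let v : Fin m → O ⧸ J := fun i => (bs i : O ⧸ J)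
  choose co hco using fun i => LinearMap.exists_extend (bs.coord i)
  have hdual : ∀ i l, co i (v l) = if i = l then 1 else 0 := fun i l => by
    have := LinearMap.congr_fun (hco i) (bs l)
    rw [LinearMap.comp_apply] at this
    refine this.trans ?_
    simp [Module.Basis.coord_apply, Finsupp.single_apply, eq_comm]
  have hspan : ∀ (y : O ⧸ J) (hy : ψ y = 0), y = ∑ i, bs.repr ⟨y, hy⟩ i • v i := fun y hy => by
    refine ((congrArg Subtype.val (bs.sum_repr ⟨y, hy⟩)).symm).trans ?_
    exact (map_sum V.subtype _ _).trans (Finset.sum_congr rfl fun i _ => rfl)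
  have hse : SmallExt ψ a v co :=
    { surj := Ideal.Quotient.factor_surjective hJI
      ker_le := fun y hy => by
        rw [hspan y hy]
        refine Ideal.sum_mem _ fun i _ => ?_
        rw [Algebra.smul_def]
        exact Ideal.mul_mem_left _ _ (Ideal.subset_span ⟨i, rfl⟩)
      map_v := fun i => (bs i).2
      aug_v := fun i => by
        have hy : ψ (v i) = 0 := (bs i).2
        obtain ⟨y, hy'⟩ := Ideal.Quotient.mk_surjective (v i)
        rw [← hy'] at hy ⊢
        show εa y = 0
        have h := hImx (Ideal.Quotient.eq_zero_iff_mem.1 hy)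
        change y ∈ mx at h
        rwa [← hkerε] at h
      ann := fun x hx i => hann x (v i) hx (bs i).2
      dual := hdual }
  refine ⟨J, hJI, a, m, v, co, hse, ?_⟩
  classical
  choose t ht using fun i => Ideal.Quotient.mk_surjective (v i)
  let Jt : Ideal O := Ideal.span ((Finset.univ.image t : Finset O) : Set O)
  have htI : ∀ i, t i ∈ I := fun i => Ideal.Quotient.eq_zero_iff_mem.1 (by
    show ψ (Ideal.Quotient.mk J (t i)) = 0
    rw [ht]; exact (bs i).2)
  have hIJ : I ≤ Jt := by
    refine Submodule.le_of_le_smul_of_le_jacobson_bot (IsNoetherian.noetherian I)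
      (jacobson_eq_maximalIdeal ⊥ bot_ne_top).ge fun x hx => ?_
    have hx0 : ψ (Ideal.Quotient.mk J x) = 0 := Ideal.Quotient.eq_zero_iff_mem.2 hx
    have hsum := hspan _ hx0
    let x' : O := ∑ i, algebraMap K O (bs.repr ⟨Ideal.Quotient.mk J x, hx0⟩ i) * t i
    have hx' : x' ∈ Jt := Ideal.sum_mem _ fun i _ =>
      Ideal.mul_mem_left _ _ (Ideal.subset_span (Finset.mem_coe.2 (Finset.mem_image_of_mem t (Finset.mem_univ i))))
    rw [← sub_add_cancel x x', add_comm]
    refine Submodule.add_mem_sup hx' ?_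
    rw [smul_eq_mul]
    refine Ideal.Quotient.eq.1 (hsum.trans ?_)
    rw [map_sum]
    refine Finset.sum_congr rfl fun i _ => ?_
    rw [map_mul, ht, Algebra.smul_def]
    rfl
  have hmin : mx ∈ Jt.minimalPrimes :=
    ⟨⟨inferInstance, (Ideal.span_le.2 fun x hx => by
        obtain ⟨i, -, rfl⟩ := Finset.mem_image.1 (Finset.mem_coe.1 hx)
        exact hImx (htI i))⟩,
      fun q hq _ => (hrad q hq.1 (hIJ.trans hq.2)).ge⟩
  have hh := Ideal.height_le_card_of_mem_minimalPrimes_span_finset hmin
  rw [← maximalIdeal_height_eq_ringKrullDim]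
  refine WithBot.coe_le_coe.2 (hh.trans ?_)
  exact_mod_cast Finset.card_image_le.trans (by simp)

end

variable {K : Type u} [Field K] {R' R : Type u} [CommRing R'] [Algebra K R'] [CommRing R] [Algebra K R]
  {ψ : R' →ₐ[K] R} {a : R' →ₐ[K] K} {m : ℕ} {v : Fin m → R'} {co : Fin m → (R' →ₗ[K] K)}

/-- A nonzero functional gives a local quotient on which the extension survives. -/
theorem exists_hyperplane [IsLocalRing R'] [Nontrivial R] (hs : SmallExt ψ a v co) (α : Fin m → K) (hα : α ≠ 0) :
    ∃ (W : Ideal R') (_ : IsLocalRing (R' ⧸ W)) (ε : R' ⧸ W), ε * ε = 0 ∧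
      (∀ i, Ideal.Quotient.mkₐ K W (v i) = algebraMap K (R' ⧸ W) (α i) * ε) ∧ ∃ i, v i ∉ W := by
  obtain ⟨i₀, hi₀⟩ := Function.ne_iff.1 hα
  let W : Ideal R' := Ideal.span (Set.range fun i => v i - algebraMap K R' (α i / α i₀) * v i₀)
  have hWker : ∀ y ∈ W, ψ y = 0 := by
    intro y hy
    induction hy using Submodule.span_induction with
    | mem y hy => obtain ⟨i, rfl⟩ := hy; simp [hs.map_v]
    | zero => exact map_zero ψ
    | add p q _ _ hp hq => rw [map_add, hp, hq, add_zero]
    | smul r p _ hp => rw [smul_eq_mul, map_mul, hp, mul_zero]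
  haveI : Nontrivial (R' ⧸ W) := Ideal.Quotient.nontrivial_iff.2 fun h => by
    have := hWker 1 (h ▸ Submodule.mem_top)
    rw [map_one] at this
    exact one_ne_zero this
  haveI : IsLocalRing (R' ⧸ W) := IsLocalRing.of_surjective' _ Ideal.Quotient.mk_surjective
  let χ : R' →ₐ[K] R' ⧸ W := Ideal.Quotient.mkₐ K W
  let ε : R' ⧸ W := algebraMap K (R' ⧸ W) (α i₀)⁻¹ * χ (v i₀)
  have hχv : ∀ i, χ (v i) = algebraMap K (R' ⧸ W) (α i) * ε := fun i => by
    rw [show algebraMap K (R' ⧸ W) (α i) * ε = algebraMap K (R' ⧸ W) (α i / α i₀) * χ (v i₀) by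
      rw [← mul_assoc, ← map_mul, div_eq_mul_inv], ← χ.commutes, ← map_mul]
    exact Ideal.Quotient.eq.2 (Ideal.subset_span ⟨i, rfl⟩)
  have hεε : ε * ε = 0 := by
    rw [show ε * ε = (algebraMap K (R' ⧸ W) (α i₀)⁻¹ * algebraMap K (R' ⧸ W) (α i₀)⁻¹) * (χ (v i₀) * χ (v i₀)) by ring,
      ← map_mul χ, mul_v hs, map_zero, mul_zero]
  refine ⟨W, inferInstance, ε, hεε, hχv, i₀, fun hvW => ?_⟩
  have hker : ∀ y ∈ W, y ∈ Ideal.span (Set.range v) := fun y hy => hs.ker_le (hWker y hy)
  have hsmul : ∀ (r y : R'), y ∈ Ideal.span (Set.range v) → r * y = a r • y := fun r y hy => by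
    induction hy using Submodule.span_induction with
    | mem y hy =>
      obtain ⟨l, rfl⟩ := hy
      have h := hs.ann (r - algebraMap K R' (a r)) (by simp) l
      rw [sub_mul, sub_eq_zero] at h
      rw [h, Algebra.smul_def]
    | zero => rw [mul_zero, smul_zero]
    | add p q _ _ hp hq => rw [mul_add, smul_add, hp, hq]
    | smul t p _ hp => rw [smul_eq_mul, mul_left_comm, hp, mul_smul_comm]
  let ℓ : R' →ₗ[K] K := ∑ i, α i • co i
  have hℓ : ∀ i, ℓ (v i) = α i := fun i => by
    simp [ℓ, hs.dual]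
  have hℓW : ∀ y ∈ W, ℓ y = 0 := by
    intro y hy
    induction hy using Submodule.span_induction with
    | mem y hy =>
      obtain ⟨i, rfl⟩ := hy
      rw [map_sub, ← Algebra.smul_def, map_smul, hℓ, hℓ, smul_eq_mul, div_mul_cancel₀ _ hi₀, sub_self]
    | zero => exact map_zero ℓ
    | add p q _ _ hp hq => rw [map_add, hp, hq, add_zero]
    | smul r p hp' hp => rw [smul_eq_mul, hsmul r p (hker p hp'), map_smul, hp, smul_zero]
  exact hi₀ ((hℓ i₀).symm.trans (hℓW _ hvW))

end Groth.Agent.L26.H1Bound
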