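import Groth.Agent.L02.PicTan.Main
import Groth.Agent.L16.ProperFinite

/-!
# Small extensions bound the first cohomology of the structure sheaf

If an invertible module on a small thickening of a proper scheme over a field is trivial on the smaller
thickening but on no proper quotient of the extension by a line, the kernel has dimension at most `h¹(O)`.
-/

set_option autoImplicit false
set_option linter.style.haveILetI false
set_option linter.unusedSectionVars false
set_option backward.isDefEq.respectTransparency false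
set_option backward.isDefEq.respectTransparency.types false

universe u

open CategoryTheory CategoryTheory.Limits AlgebraicGeometry TopologicalSpace Opposite

noncomputable section

namespace Groth.Agent.L26.H1Bound

open Groth.L02.PicTan Groth.L02.PicEtale
open Groth.L17.BC (act C dL dL_dL)
open Groth.L18.Frame (rs ro ro_ro ro_self ro_mul rs_rs rs_smul rs_self IsFrame pull pull_smul pull_rs)

theorem ro_sum {Z : Scheme.{u}} {V W : Z.Opens} (h : W ≤ V) {σ : Type*} (s : Finset σ) (x : σ → Γ(Z, V)) :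
    ro h (∑ i ∈ s, x i) = ∑ i ∈ s, ro h (x i) :=
  map_sum (Z.presheaf.map (homOfLE h).op).hom x s

variable {k : Type u} [Field k] {X : Scheme.{u}} (f : X ⟶ Spec (CommRingCat.of k))
variable {K : Type u} [Field K] [Algebra k K] {R' R : Type u} [CommRing R'] [Algebra K R'] [CommRing R] [Algebra K R]

theorem preimage_red (a : R' →ₐ[K] K) (V : (YA f K K).Opens) : σA f a ⁻¹ᵁ (prA f K R' ⁻¹ᵁ V) = V := by
  rw [← Scheme.Hom.comp_preimage, σA_prA, prA_self]
  rfl

/-- Restriction to the scheme over the field along a point of the algebra. -/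
def red (a : R' →ₐ[K] K) (V : (YA f K K).Opens) : Γ(YA f K R', prA f K R' ⁻¹ᵁ V) →+* Γ(YA f K K, V) :=
  ((σA f a).appLE _ V (preimage_red f a V).ge).hom

theorem red_pr (a : R' →ₐ[K] K) {V : (YA f K K).Opens} (c : Γ(YA f K K, V)) :
    red f a V ((prA f K R').app V c) = c := by
  show ((prA f K R').app V ≫ (σA f a).appLE _ V (preimage_red f a V).ge) c = _
  have h : (prA f K R').app V ≫ (σA f a).appLE _ V (preimage_red f a V).ge = 𝟙 _ := by
    rw [Scheme.Hom.app_eq_appLE, Scheme.Hom.appLE_comp_appLE, ← Scheme.Hom.id_app V, Scheme.Hom.app_eq_appLE]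
    congr 1
    rw [σA_prA, prA_self]
  rw [h]
  rfl

theorem app_eq_zero_iff_red (a : R' →ₐ[K] K) {V : (YA f K K).Opens} (x : Γ(YA f K R', prA f K R' ⁻¹ᵁ V)) :
    (σA f a).app _ x = 0 ↔ red f a V x = 0 := by
  have h : red f a V x = ro (preimage_red f a V).ge ((σA f a).app _ x) := by
    show (σA f a).appLE _ V _ x = _
    rw [Scheme.Hom.appLE]
    rfl
  constructor
  · intro hx; rw [h, hx]; exact map_zero _
  · intro hx
    rw [h] at hx
    have := congrArg (ro (preimage_red f a V).le) hx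
    rwa [ro_ro, ro_self, show ro (preimage_red f a V).le (0 : Γ(YA f K K, V)) = 0 from map_zero _] at this

/-- Data of a small extension with a basis of the kernel. -/
structure SmallExt (ψ : R' →ₐ[K] R) (a : R' →ₐ[K] K) {m : ℕ} (v : Fin m → R') (co : Fin m → (R' →ₗ[K] K)) : Prop where
  surj : Function.Surjective ψ
  ker_le : RingHom.ker ψ.toRingHom ≤ Ideal.span (Set.range v)
  map_v : ∀ j, ψ (v j) = 0
  aug_v : ∀ j, a (v j) = 0
  ann : ∀ x, a x = 0 → ∀ j, x * v j = 0
  dual : ∀ i j, co i (v j) = if i = j then 1 else 0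

variable {f} {ψ : R' →ₐ[K] R} {a : R' →ₐ[K] K} {m : ℕ} {v : Fin m → R'} {co : Fin m → (R' →ₗ[K] K)}
  (hs : SmallExt ψ a v co)

theorem surjective_aug (a : R' →ₐ[K] K) : Function.Surjective a := fun c => ⟨algebraMap K R' c, a.commutes c⟩

include hs in
theorem mul_v (i j : Fin m) : v i * v j = 0 := hs.ann _ (hs.aug_v i) j

include hs in
/-- Killed sections are combinations of the kernel. -/
theorem exists_eq_sum [IsProper f] [IsNoetherianRing R'] {V : (YA f K K).Opens} (hV : IsAffineOpen V)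
    (x : Γ(YA f K R', prA f K R' ⁻¹ᵁ V)) (hx : (σA f ψ).app _ x = 0) :
    ∃ c : Fin m → Γ(YA f K K, V), x = ∑ j, qA f R' _ (v j) * (prA f K R').app V (c j) := by
  haveI : IsAffineHom (prA f K R') := isAffineHom_prA f
  have hW : IsAffineOpen (prA f K R' ⁻¹ᵁ V) := hV.preimage _
  obtain ⟨s, hsum⟩ : ∃ s : Fin m → Γ(YA f K R', prA f K R' ⁻¹ᵁ V), x = ∑ j, qA f R' _ (v j) * s j := by
    letI : Algebra R' R := ψ.toRingHom.toAlgebra
    exact Groth.L12.LineLift.exists_eq_sum_of_app_eq_zero (tA f K R') (tA f K R) (σA f ψ)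
      (isPullback_XTmap f (Tmap ψ)) hs.surj v hs.ker_le hW hx
  refine ⟨fun j => red f a V (s j), hsum.trans (Finset.sum_congr rfl fun j _ => ?_)⟩
  letI : Algebra R' K := a.toRingHom.toAlgebra
  obtain ⟨n, w, hw⟩ := Submodule.fg_iff_exists_fin_generating_family.1
    (IsNoetherian.noetherian (RingHom.ker (algebraMap R' K)))
  have h0 : (σA f a).app _ (s j - (prA f K R').app V (red f a V (s j))) = 0 := by
    rw [app_eq_zero_iff_red, map_sub, red_pr, sub_self]
  obtain ⟨r, hr⟩ := Groth.L12.LineLift.exists_eq_sum_of_app_eq_zero (tA f K R') (tA f K K) (σA f a)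
    (isPullback_XTmap f (Tmap a)) (surjective_aug a) w hw.ge hW h0
  rw [← sub_eq_zero, ← mul_sub, hr, Finset.mul_sum]
  refine Finset.sum_eq_zero fun l _ => ?_
  rw [← mul_assoc, ← map_mul, mul_comm (v j), hs.ann _ (hw.le (Submodule.subset_span ⟨l, rfl⟩)) j, map_zero, zero_mul]

include hs in
/-- The coefficients are unique. -/
theorem eq_zero_of_sum [IsProper f] {V : (YA f K K).Opens} (hV : IsAffineOpen V) (c : Fin m → Γ(YA f K K, V))
    (h : ∑ j, qA f R' _ (v j) * (prA f K R').app V (c j) = 0) (j : Fin m) : c j = 0 := by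
  letI : Algebra R' K := a.toRingHom.toAlgebra
  haveI : IsAffineHom (prA f K R') := isAffineHom_prA f
  haveI : Flat (tA f K R') := MorphismProperty.pullback_snd _ _ inferInstance
  let J : Ideal R' := RingHom.ker ψ.toRingHom
  let co' : Fin m → (J →ₗ[R'] R' ⧸ RingHom.ker (algebraMap R' K)) := fun i =>
    { toFun := fun x => Ideal.Quotient.mk _ (algebraMap K R' (co i x))
      map_add' := fun x y => by simp
      map_smul' := fun r x => by
        show Ideal.Quotient.mk _ (algebraMap K R' (co i (r * (x : R')))) = r • _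
        change Ideal.Quotient.mk _ _ = Ideal.Quotient.mk _ r * Ideal.Quotient.mk _ _
        have hx : ∀ y, a y = 0 → y * (x : R') = 0 := fun y hy => by
          refine Submodule.span_induction (p := fun z _ => y * z = 0) ?_ (mul_zero _) ?_ ?_ (hs.ker_le x.2)
          · rintro _ ⟨l, rfl⟩; exact hs.ann y hy l
          · intro p q _ _ hp hq; rw [mul_add, hp, hq, add_zero]
          · intro t p _ hp; rw [smul_eq_mul, ← mul_assoc, mul_comm y, mul_assoc, hp, mul_zero]
        have e : r * (x : R') = a r • (x : R') := by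
          rw [Algebra.smul_def]
          have := hx (r - algebraMap K R' (a r)) (by simp)
          rwa [sub_mul, sub_eq_zero] at this
        rw [e, map_smul, smul_eq_mul, map_mul, map_mul]
        congr 1
        rw [Ideal.Quotient.eq, RingHom.mem_ker]
        show a (algebraMap K R' (a r) - r) = 0
        simp }
  have h1 := Groth.L12.LineLift.app_eq_zero_of_sum_eq_zero (tA f K R') (tA f K K) (σA f a)
    (isPullback_XTmap f (Tmap a)) v (J := J) hs.map_v co' (fun i l => by
      show Ideal.Quotient.mk _ (algebraMap K R' (co i (v l))) = _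
      rw [hs.dual]
      split_ifs <;> simp) (hV.preimage (prA f K R')) (fun l => (prA f K R').app V (c l)) h j
  rwa [app_eq_zero_iff_red, red_pr] at h1

include hs in
theorem surjective_σA : Surjective (σA f ψ) := by
  haveI : Surjective (Tmap (k := k) ψ).left := ⟨fun p => by
    have hp : (show PrimeSpectrum R' from p) ∈ Set.range (PrimeSpectrum.comap ψ.toRingHom) := by
      rw [range_comap_of_surjective _ _ hs.surj]
      intro x hx
      refine (show PrimeSpectrum R' from p).isPrime.mem_of_pow_mem 2 ?_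
      have : x ^ 2 = 0 := by
        have h := Ideal.mul_mem_mul (hs.ker_le hx) (hs.ker_le hx)
        rw [Ideal.span_mul_span', Ideal.span_eq_bot.2 (by
          rintro _ ⟨_, ⟨i, rfl⟩, _, ⟨j, rfl⟩, rfl⟩; exact mul_v hs i j), Ideal.mem_bot] at h
        rw [pow_two, h]
      rw [this]
      exact Submodule.zero_mem _
    exact hp⟩
  exact MorphismProperty.of_isPullback (P := @Surjective) (isPullback_XTmap f (Tmap (k := k) ψ)).flip inferInstance

include hs in
theorem isClosedImmersion_σA : IsClosedImmersion (σA f ψ) := by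
  haveI : IsClosedImmersion (Tmap (k := k) ψ).left := IsClosedImmersion.spec_of_surjective _ hs.surj
  exact MorphismProperty.of_isPullback (P := @IsClosedImmersion) (isPullback_XTmap f (Tmap (k := k) ψ)).flip
    inferInstance

variable {ι : Type u} {U : ι → (YA f K K).Opens}

include hs in
/-- A module trivial on the small thickening has transition functions `1 + ∑ vⱼ cⱼ` with additive cocycles. -/
theorem exists_cocycles [IsProper f] [IsNoetherianRing R'] (hU : ∀ a, IsAffineOpen (U a))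
    (hU₂ : ∀ a b, IsAffineOpen (U a ⊓ U b)) (hU₃ : ∀ a b d, IsAffineOpen (U a ⊓ U b ⊓ U d))
    (hcov : ∀ x : YA f K K, ∃ a, x ∈ U a)
    (M : (YA f K R').Modules) (hM : PicF.IsInvertible M)
    (θ : (Scheme.Modules.pullback (σA f ψ)).obj M ≅ Coh.structureModule (YA f K R)) :
    ∃ (G : MulCocycle (NA f U R')) (z : Fin m → AddCoc f U), Nonempty (G.line ≅ M) ∧
      ∀ p q, G.g p q = (show Γ(YA f K R', prA f K R' ⁻¹ᵁ (U p ⊓ U q)) from
        1 + ∑ j, qA f R' (prA f K R' ⁻¹ᵁ (U p ⊓ U q)) (v j) * (prA f K R').app (U p ⊓ U q) ((z j).c p q)) := by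
  haveI := surjective_σA (f := f) hs
  haveI := isClosedImmersion_σA (f := f) hs
  haveI : IsAffineHom (prA f K R') := isAffineHom_prA f
  haveI : Coh.IsQCoh M := Groth.L21.Extend.isQCoh_of_isInvertible hM
  let i := σA f ψ
  let pr := prA f K R'
  let N := NA f U R'
  let e₀ : ∀ p, Γ((Scheme.Modules.pullback i).obj M, i ⁻¹ᵁ N p) := fun p =>
    θ.inv.app _ (1 : Γ(YA f K R, i ⁻¹ᵁ N p))
  have he₀ : ∀ p, IsFrame ((Scheme.Modules.pullback i).obj M) (i ⁻¹ᵁ N p) (e₀ p) := fun p =>
    Groth.L12.LineLift.isFrame_iso θ.symm (isFrame_one _)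
  choose s hs' using fun p => Groth.L22.FLI.pull_surjective i M ((hU p).preimage pr) (e₀ p)
  have hframe : ∀ p, IsFrame M (N p) (s p) := fun p => by
    have hW : ∀ x : N p, ∃ W : (YA f K R').Opens, W ≤ N p ∧ x.1 ∈ W ∧ ∃ e, IsFrame M W e := fun x => by
      obtain ⟨W, e, hx, he⟩ := Groth.L18.Frame.exists_frame hM x.1
      exact ⟨W ⊓ N p, inf_le_right, ⟨hx, x.2⟩, rs M inf_le_left e, he.mono inf_le_left⟩
    choose W hWN hxW e he using hW
    refine IsFrame.of_cover W hWN (fun y hy => Opens.mem_iSup.2 ⟨⟨y, hy⟩, hxW _⟩) fun x => ?_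
    obtain ⟨α, hα⟩ := (he x).exists_coeff le_rfl (rs M (hWN x) (s p))
    rw [rs_self] at hα
    have hu : IsUnit α := by
      refine isUnit_of_app_isUnit i α (Groth.L18.Frame.isUnit_of_isFrame
        (Groth.L18.Frame.IsFrame.pullback i M (he x)) ?_)
      rw [← pull_smul, hα, ← pull_rs, hs']
      exact (he₀ p).mono _
    rw [← hα]
    exact (he x).smul_unit hu
  have hOa : ∀ p q, pr ⁻¹ᵁ (U p ⊓ U q) ≤ N p := fun p q => pr.preimage_mono inf_le_left
  have hOb : ∀ p q, pr ⁻¹ᵁ (U p ⊓ U q) ≤ N q := fun p q => pr.preimage_mono inf_le_right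
  choose g hg using fun p q => (hframe p).exists_coeff (hOa p q) (rs M (hOb p q) (s q))
  have hg1 : ∀ p q, i.app (pr ⁻¹ᵁ (U p ⊓ U q)) (g p q) = 1 := fun p q => by
    refine (he₀ p).inj (i.preimage_mono (hOa p q)) ?_
    have h := congrArg (pull i M (pr ⁻¹ᵁ (U p ⊓ U q))) (hg p q)
    rw [pull_smul, ← pull_rs, ← pull_rs, hs', hs'] at h
    rw [h, one_smul]
    have e1 : ∀ {V W : (YA f K R).Opens} (h : W ≤ V), rs ((Scheme.Modules.pullback i).obj M) h
        (θ.inv.app V (1 : Γ(YA f K R, V))) = θ.inv.app W (1 : Γ(YA f K R, W)) := fun h => by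
      refine (Groth.L21.Extend.rs_app θ.inv h _).symm.trans ?_
      congr 1
      exact map_one ((YA f K R).presheaf.map (homOfLE h).op).hom
    exact (e1 _).trans (e1 _).symm
  choose c hc using fun p q => exists_eq_sum hs (hU₂ p q) (g p q - 1)
    (by rw [map_sub, map_one]; exact sub_eq_zero.2 (hg1 p q))
  have hgc : ∀ p q, g p q = 1 + ∑ j, qA f R' _ (v j) * pr.app (U p ⊓ U q) (c p q j) := fun p q => by
    rw [← hc]; ring
  have hmul : ∀ (p q d : ι) (W : (YA f K R').Opens) (hp : W ≤ N p) (hq : W ≤ N q) (hd : W ≤ N d),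
      ro (le_inf hp hq : W ≤ pr ⁻¹ᵁ (U p ⊓ U q)) (g p q) * ro (le_inf hq hd : W ≤ pr ⁻¹ᵁ (U q ⊓ U d)) (g q d) =
        ro (le_inf hp hd : W ≤ pr ⁻¹ᵁ (U p ⊓ U d)) (g p d) := by
    intro p q d W hp hq hd
    have e1 := congrArg (rs M (le_inf hp hq : W ≤ pr ⁻¹ᵁ (U p ⊓ U q))) (hg p q)
    have e2 := congrArg (rs M (le_inf hq hd : W ≤ pr ⁻¹ᵁ (U q ⊓ U d))) (hg q d)
    have e3 := congrArg (rs M (le_inf hp hd : W ≤ pr ⁻¹ᵁ (U p ⊓ U d))) (hg p d)
    simp only [rs_smul, rs_rs] at e1 e2 e3
    refine (hframe p).inj hp ?_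
    rw [mul_comm, mul_smul]
    exact (congrArg _ e1).trans (e2.trans e3.symm)
  let G : MulCocycle N :=
    { g := g
      isUnit := fun p q => isUnit_of_app_isUnit i _ (by rw [hg1]; exact isUnit_one)
      comp := hmul }
  let z : Fin m → AddCoc f U := fun j => ⟨fun p q => c p q j, fun p q d => by
    let T := U p ⊓ U q ⊓ U d
    have hqd : T ≤ U q ⊓ U d := le_inf (inf_le_left.trans inf_le_right) inf_le_right
    have hpd : T ≤ U p ⊓ U d := le_inf (inf_le_left.trans inf_le_left) inf_le_right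
    have hpq : T ≤ U p ⊓ U q := inf_le_left
    have key : ∀ {O : (YA f K K).Opens} (h : T ≤ O) (x : Fin m → Γ(YA f K K, O)),
        ro (pr.preimage_mono h) (1 + ∑ l, qA f R' _ (v l) * pr.app O (x l)) =
          1 + ∑ l, qA f R' (pr ⁻¹ᵁ T) (v l) * pr.app T (ro h (x l)) := fun h x => by
      rw [ro_add, ro_one, ro_sum]
      congr 1
      refine Finset.sum_congr rfl fun l _ => ?_
      rw [ro_mul, app_ro_pr f h, ro_qA]
    have h := hmul p q d (pr ⁻¹ᵁ T) (pr.preimage_mono (inf_le_left.trans inf_le_left))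
      (pr.preimage_mono (inf_le_left.trans inf_le_right)) (pr.preimage_mono inf_le_right)
    rw [hgc p q, hgc q d, hgc p d, key hpq, key hqd, key hpd] at h
    have h0 : ∀ x y : Fin m → Γ(YA f K R', pr ⁻¹ᵁ T),
        (∑ l, qA f R' (pr ⁻¹ᵁ T) (v l) * x l) * (∑ l, qA f R' (pr ⁻¹ᵁ T) (v l) * y l) = 0 := fun x y => by
      rw [Finset.sum_mul_sum]
      exact Finset.sum_eq_zero fun l _ => Finset.sum_eq_zero fun l' _ => by
        rw [mul_mul_mul_comm, ← map_mul, mul_v hs, map_zero, zero_mul]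
    refine eq_zero_of_sum hs (hU₃ p q d) (fun l => ro hqd (c q d l) - ro hpd (c p d l) + ro hpq (c p q l)) ?_ j
    simp only [map_add, map_sub, mul_add, mul_sub, Finset.sum_add_distrib, Finset.sum_sub_distrib]
    linear_combination h - h0 (fun l => pr.app T (ro hpq (c p q l))) (fun l => pr.app T (ro hqd (c q d l)))⟩
  exact ⟨G, z, nonempty_iso_line (covA hcov R') G M s hframe fun p q => (hg p q).symm, fun p q => hgc p q⟩

/-- A combination of the cocycles which is a coboundary makes the module trivial on the corresponding quotient. -/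
theorem nonempty_iso_of_comb (hcov : ∀ x : YA f K K, ∃ a, x ∈ U a) (M : (YA f K R').Modules)
    (G : MulCocycle (NA f U R')) (e : G.line ≅ M) (z : Fin m → AddCoc f U)
    (hG : ∀ p q, G.g p q = (show Γ(YA f K R', prA f K R' ⁻¹ᵁ (U p ⊓ U q)) from
      1 + ∑ j, qA f R' (prA f K R' ⁻¹ᵁ (U p ⊓ U q)) (v j) * (prA f K R').app (U p ⊓ U q) ((z j).c p q)))
    (α : Fin m → K) (t : ∀ p, Γ(YA f K K, U p))
    (ht : ∀ p q, ∑ j, qA f K (U p ⊓ U q) (α j) * (z j).c p q =
      ro (inf_le_right : U p ⊓ U q ≤ U q) (t q) - ro inf_le_left (t p))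
    {S : Type u} [CommRing S] [Algebra K S] (χ : R' →ₐ[K] S) (ε : S) (hε : ε * ε = 0)
    (hχ : ∀ j, χ (v j) = algebraMap K S (α j) * ε) :
    Nonempty ((Scheme.Modules.pullback (σA f χ)).obj M ≅ Coh.structureModule (YA f K S)) := by
  obtain ⟨e₁⟩ := nonempty_pullback_line (σA f χ) (fun p => preimage_le f χ (U p)) (covA hcov S) G (pullC χ G)
    fun p q => rfl
  let pr := prA f K S
  have hsq : ∀ (W : (YA f K S).Opens), qA f S W ε * qA f S W ε = 0 := fun W => by rw [← map_mul, hε, map_zero]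
  suffices h : Nonempty ((pullC χ G).line ≅ Coh.structureModule (YA f K S)) from
    h.elim fun e₂ => ⟨((Scheme.Modules.pullback (σA f χ)).mapIso e.symm) ≪≫ e₁ ≪≫ e₂⟩
  refine nonempty_iso_of_coboundary (covA hcov S) (pullC χ G)
    (fun p => (show Γ(YA f K S, NA f U S p) from 1 + qA f S (pr ⁻¹ᵁ U p) ε * pr.app (U p) (t p))) (fun p => ?_) fun p q => ?_
  · exact IsUnit.of_mul_eq_one (1 - qA f S (pr ⁻¹ᵁ U p) ε * pr.app (U p) (t p)) (by
      linear_combination (-(pr.app (U p) (t p) * pr.app (U p) (t p))) * hsq (pr ⁻¹ᵁ U p))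
  · let O := U p ⊓ U q
    have hg : σapp f χ O (G.g p q) = 1 + qA f S (pr ⁻¹ᵁ O) ε * pr.app O (∑ j, qA f K O (α j) * (z j).c p q) := by
      rw [hG p q]
      show σapp f χ O (1 + ∑ j, qA f R' (prA f K R' ⁻¹ᵁ O) (v j) * (prA f K R').app O ((z j).c p q)) = _
      rw [map_add, map_one, map_sum, map_sum (pr.app O).hom, Finset.mul_sum]
      congr 1
      refine Finset.sum_congr rfl fun j _ => ?_
      rw [map_mul, σapp_qA, σapp_pr, hχ, map_mul, qA_algebraMap, map_mul (pr.app O).hom]
      ring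
    show ro (pr.preimage_mono (inf_le_right : O ≤ U q)) _ =
      σapp f χ O (G.g p q) * ro (pr.preimage_mono (inf_le_left : O ≤ U p)) _
    rw [hg, ht p q]
    have hro : ∀ {V : (YA f K K).Opens} (h : O ≤ V) (x : Γ(YA f K K, V)),
        ro (pr.preimage_mono h) (pr.app V x) = pr.app O (ro h x) := fun h x => app_ro_pr f h x
    simp only [ro_add, ro_one, ro_mul, hro (inf_le_right : O ≤ U q), hro (inf_le_left : O ≤ U p), map_sub]
    rw [show ro (pr.preimage_mono (inf_le_right : O ≤ U q)) (qA f S (pr ⁻¹ᵁ U q) ε) = qA f S (pr ⁻¹ᵁ O) ε from ro_qA f _ _,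
      show ro (pr.preimage_mono (inf_le_left : O ≤ U p)) (qA f S (pr ⁻¹ᵁ U p) ε) = qA f S (pr ⁻¹ᵁ O) ε from ro_qA f _ _]
    linear_combination (-((pr.app O (ro (inf_le_right : O ≤ U q) (t q)) - pr.app O (ro (inf_le_left : O ≤ U p) (t p))) *
      pr.app O (ro (inf_le_left : O ≤ U p) (t p)))) * hsq (pr ⁻¹ᵁ O)

include hs in
/-- If `m` exceeds `h¹(O)` some nonzero combination gives a trivial quotient. -/
theorem exists_trivial_quotient [IsProper f] [IsNoetherianRing R'] (M : (YA f K R').Modules) (hM : PicF.IsInvertible M)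
    (θ : (Scheme.Modules.pullback (σA f ψ)).obj M ≅ Coh.structureModule (YA f K R))
    (hm : letI : Module K (Coh.HH (YA f K K) (Coh.structureModule (YA f K K)) 1) :=
        Module.compHom _ (Coh.toGlobal (tA f K K))
      Module.finrank K (Coh.HH (YA f K K) (Coh.structureModule (YA f K K)) 1) < m) :
    ∃ α : Fin m → K, α ≠ 0 ∧ ∀ (S : Type u) [CommRing S] [Algebra K S] (χ : R' →ₐ[K] S) (ε : S), ε * ε = 0 →
      (∀ j, χ (v j) = algebraMap K S (α j) * ε) →
      Nonempty ((Scheme.Modules.pullback (σA f χ)).obj M ≅ Coh.structureModule (YA f K S)) := by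
  haveI hp : IsProper (tA f K K) := MorphismProperty.pullback_snd _ _ inferInstance
  haveI : (YA f K K).IsSeparated := ⟨by rw [← terminal.comp_from (tA f K K)]; infer_instance⟩
  haveI : CompactSpace (YA f K K) := QuasiCompact.compactSpace_of_compactSpace (tA f K K)
  obtain ⟨s, hscov⟩ := isCompact_univ.elim_finite_subcover (fun W : (YA f K K).affineOpens => (W.1 : Set (YA f K K)))
    (fun W => W.1.2) fun x _ => by
      obtain ⟨W, hW, hxW, -⟩ := exists_isAffineOpen_mem_and_subset (x := x) (U := (⊤ : (YA f K K).Opens)) trivial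
      exact Set.mem_iUnion.2 ⟨⟨W, hW⟩, hxW⟩
  let U : {W // W ∈ s} → (YA f K K).Opens := fun p => p.1.1
  have hU : ∀ p, IsAffineOpen (U p) := fun p => p.1.2
  have hcov : ∀ x : YA f K K, ∃ p, x ∈ U p := fun x => by
    obtain ⟨p, hp, hx⟩ := Set.mem_iUnion₂.1 (hscov (Set.mem_univ x))
    exact ⟨⟨p, hp⟩, hx⟩
  have hU₂ : ∀ p q, IsAffineOpen (U p ⊓ U q) := fun p q => (hU p).inf (hU q)
  obtain ⟨G, z, ⟨e⟩, hG⟩ := exists_cocycles hs hU hU₂ (fun p q d => (hU₂ p q).inf (hU d)) hcov M hM θ
  let ρ := Coh.toGlobal (tA f K K)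
  letI : Module K (Coh.HH (YA f K K) (Coh.structureModule (YA f K K)) 1) := Module.compHom _ ρ
  haveI : Coh.IsQCoh (Coh.structureModule (YA f K K)) :=
    Groth.L21.Extend.isQCoh_of_isInvertible (Groth.L18.Ample.isInvertible_structureModule _)
  haveI : Module.Finite K (Coh.HH (YA f K K) (Coh.structureModule (YA f K K)) 1) := by
    letI : (YA f K K).Over (Spec (CommRingCat.of K)) := ⟨tA f K K⟩
    haveI : IsProper ((YA f K K) ↘ Spec (CommRingCat.of K)) := hp
    haveI : IsLocallyNoetherian (YA f K K) := LocallyOfFiniteType.isLocallyNoetherian (tA f K K)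
    exact Groth.L16.ProperFinite.finite_HH K (Groth.L16.CohClosedPush.isCoh_structure (X := YA f K K)) 1
  obtain ⟨eH⟩ := Groth.L17.BC.exists_homology_equiv ρ (Coh.structureModule (YA f K K)) U
    (top_unique fun x _ => Opens.mem_iSup.2 (hcov x))
    (fun n p => IsAffineOpen.iInf fun j => hU _) 1
  let d0 := dL ρ (Coh.structureModule (YA f K K)) U (0 : ℤ)
  let d1 := dL ρ (Coh.structureModule (YA f K K)) U (1 : ℤ)
  let S : ShortComplex (ModuleCat.{u} K) := ShortComplex.mk (ModuleCat.ofHom d0) (ModuleCat.ofHom d1)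
    (ModuleCat.hom_ext (LinearMap.ext (dL_dL ρ (Coh.structureModule (YA f K K)) U 0)))
  have iS : (Groth.L17.BC.K ρ (Coh.structureModule (YA f K K)) U).sc' (0 : ℤ) 1 2 ≅ S :=
    ShortComplex.isoMk (Iso.refl _) (Iso.refl _) (Iso.refl _)
      (by
        refine ModuleCat.hom_ext (LinearMap.ext fun x => ?_)
        exact (Groth.L17.BC.K_d ρ (Coh.structureModule (YA f K K)) U 0 x).symm)
      (by
        refine ModuleCat.hom_ext (LinearMap.ext fun x => ?_)
        exact (Groth.L17.BC.K_d ρ (Coh.structureModule (YA f K K)) U 1 x).symm)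
  let iso := (Groth.L17.BC.K ρ (Coh.structureModule (YA f K K)) U).homologyIsoSc' (0 : ℤ) ((1 : ℕ) : ℤ) 2
    (by simp) (by simp) ≪≫ ShortComplex.homologyMapIso iS ≪≫ S.moduleCatHomologyIso
  let E : (LinearMap.ker d1 ⧸ LinearMap.range S.moduleCatToCycles) ≃ₗ[K] _ := iso.toLinearEquiv.symm ≪≫ₗ eH
  choose x hxd hxz using fun j => exists_cochain f U (z j)
  let w : Fin m → LinearMap.ker d1 := fun j => ⟨x j, LinearMap.mem_ker.2 (hxd j)⟩
  have hdep : ¬ LinearIndependent K (fun j => Submodule.Quotient.mk (p := LinearMap.range S.moduleCatToCycles) (w j)) := by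
    intro hli
    haveI : Module.Finite K (LinearMap.ker d1 ⧸ LinearMap.range S.moduleCatToCycles) := Module.Finite.equiv E.symm
    have h1 := hli.fintype_card_le_finrank
    have h2 := h1.trans_eq E.finrank_eq
    rw [Fintype.card_fin] at h2
    omega
  obtain ⟨α, hα, j₀, hj₀⟩ := Fintype.not_linearIndependent_iff.1 hdep
  refine ⟨α, fun h => hj₀ (by rw [h]; rfl), fun S' _ _ χ ε hε hχ => ?_⟩
  have hα' : Submodule.Quotient.mk (p := LinearMap.range S.moduleCatToCycles) (∑ j, α j • w j) = 0 := by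
    rw [← Submodule.mkQ_apply, map_sum]
    simpa only [map_smul, Submodule.mkQ_apply] using hα
  obtain ⟨y, hy⟩ := (Submodule.Quotient.mk_eq_zero _).1 hα'
  have hy' : d0 y = ∑ j, α j • x j := by
    refine (congrArg Subtype.val hy).trans ?_
    exact (map_sum (LinearMap.ker d1).subtype _ _).trans (Finset.sum_congr rfl fun j _ => rfl)
  refine nonempty_iso_of_comb hcov M G e z hG α (singleVal f U y) (fun p q => ?_) χ ε hε hχ
  rw [← pairVal_d, show dL ρ (Coh.structureModule (YA f K K)) U (0 : ℤ) y = ∑ j, α j • x j from hy']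
  have hsum : pairVal f U (∑ j, α j • x j) p q = ∑ j, pairVal f U (α j • x j) p q :=
    map_sum (AddMonoidHom.mk' (fun t => pairVal f U t p q) (fun s t => pairVal_add U s t p q)) _ _
  rw [hsum]
  refine Finset.sum_congr rfl fun j _ => ?_
  rw [pairVal_smul]
  congr 1
  exact (hxz j p q).symm

end Groth.Agent.L26.H1Bound
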