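import Groth.Agent.L08.Cube.Invariant
import Groth.Agent.L26.Pic0.Mumford
import Groth.Agent.L26.AlbProper.Albanese

/-!
# Translations which a generating map does not see

For an ample `L` on an abelian variety `A` and a map `g : X ⟶ A` whose sums cover `A`, only finitely many
rational points `b` satisfy `g^* t_b^* L ≅ g^* L`.
-/

set_option autoImplicit false
set_option linter.style.haveILetI false
set_option linter.unusedSectionVars false
set_option backward.isDefEq.respectTransparency false

universe u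

open CategoryTheory CategoryTheory.Limits MonoidalCategory CartesianMonoidalCategory AlgebraicGeometry TopologicalSpace
open scoped MonObj

noncomputable section

namespace Groth.Agent.L26.H1Bound

open Groth.L08.Cube Groth.Agent.AbDualLib Groth.Agent.Pic0
open Groth.Agent.L26.AlbSm (pw sumPow)

attribute [local instance] clMonoid

variable {K : Type u} [Field K] [IsAlgClosed K] {A : Over (Spec (CommRingCat.of K))} [GrpObj A] [IsProper A.hom]
  [GeometricallyIntegral A.hom] (L : A.left.Modules) (hL : PicF.IsInvertible L)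

include hL in
theorem exists_inv_pc {W : Over (Spec (CommRingCat.of K))} (φ : W ⟶ A) :
    ∃ c : PicF.Cl W.left, PicF.IsInvertibleCl c ∧ pc L φ * c = 1 :=
  exists_inverseCl (isInvertibleCl_pc L hL φ)

include hL in
theorem pc_cancel {W : Over (Spec (CommRingCat.of K))} (φ : W ⟶ A) {a b : PicF.Cl W.left}
    (h : pc L φ * a = pc L φ * b) : a = b := by
  obtain ⟨c, -, hc⟩ := exists_inv_pc L hL φ
  calc a = (pc L φ * c) * a := by rw [hc, one_mul]
    _ = c * (pc L φ * a) := by ac_rfl
    _ = c * (pc L φ * b) := by rw [h]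
    _ = (pc L φ * c) * b := by ac_rfl
    _ = b := by rw [hc, one_mul]

/-- The constant map at a point. -/
abbrev cst' (W : Over (Spec (CommRingCat.of K))) (b : 𝟙_ (Over (Spec (CommRingCat.of K))) ⟶ A) : W ⟶ A :=
  toUnit W ≫ b

theorem comp_cst' {W W' : Over (Spec (CommRingCat.of K))} (s : W ⟶ W')
    (b : 𝟙_ (Over (Spec (CommRingCat.of K))) ⟶ A) : s ≫ cst' W' b = cst' W b := by
  rw [cst', ← Category.assoc, toUnit_unique (s ≫ toUnit W') (toUnit W)]

/-- Translation by `b` is not seen along `φ`. -/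
def Fix {W : Over (Spec (CommRingCat.of K))} (φ : W ⟶ A) (b : 𝟙_ (Over (Spec (CommRingCat.of K))) ⟶ A) : Prop :=
  pc L (φ * cst' W b) = pc L φ

theorem fix_comp {W W' : Over (Spec (CommRingCat.of K))} (s : W ⟶ W') {φ : W' ⟶ A}
    {b : 𝟙_ (Over (Spec (CommRingCat.of K))) ⟶ A} (h : Fix L φ b) : Fix L (s ≫ φ) b := by
  show pc L _ = pc L _
  rw [← comp_cst' s b, ← MonObj.comp_mul, ← pullCl_pc L s, ← pullCl_pc L s φ, h]

include hL in
theorem fix_mul {W : Over (Spec (CommRingCat.of K))} {φ φ' : W ⟶ A}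
    {b : 𝟙_ (Over (Spec (CommRingCat.of K))) ⟶ A} (h : Fix L φ b) (h' : Fix L φ' b) : Fix L (φ * φ') b := by
  have e := cube_relation L hL φ φ' (cst' W b)
  rw [pc_const L hL b, mul_one, show pc L (φ * cst' W b) = pc L φ from h, show pc L (φ' * cst' W b) = pc L φ' from h'] at e
  obtain ⟨c, -, hc⟩ := exists_inv_pc L hL φ
  obtain ⟨c', -, hc'⟩ := exists_inv_pc L hL φ'
  show pc L _ = pc L _
  calc pc L (φ * φ' * cst' W b)
      = pc L (φ * φ' * cst' W b) * pc L φ * pc L φ' * (c * c') := by
        rw [show pc L (φ * φ' * cst' W b) * pc L φ * pc L φ' * (c * c') =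
          pc L (φ * φ' * cst' W b) * ((pc L φ * c) * (pc L φ' * c')) by ac_rfl, hc, hc', mul_one, mul_one]
    _ = pc L (φ * φ') * pc L φ * pc L φ' * (c * c') := by rw [e]
    _ = pc L (φ * φ') := by
        rw [show pc L (φ * φ') * pc L φ * pc L φ' * (c * c') =
          pc L (φ * φ') * ((pc L φ * c) * (pc L φ' * c')) by ac_rfl, hc, hc', mul_one, mul_one]

include hL in
theorem fix_sumPow {X : Over (Spec (CommRingCat.of K))} (g : X ⟶ A) {b : 𝟙_ (Over (Spec (CommRingCat.of K))) ⟶ A}
    (h : Fix L g b) : ∀ n, Fix L (sumPow g n) b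
  | 0 => by
    show pc L ((1 : 𝟙_ _ ⟶ A) * cst' (𝟙_ _) b) = pc L 1
    rw [one_mul, pc_one L hL]
    exact pc_const L hL b
  | n + 1 => fix_mul L hL (fix_comp L _ (fix_sumPow g h n)) (fix_comp L _ h)

variable {W C : Over (Spec (CommRingCat.of K))} [IsProper W.hom] [GeometricallyIntegral W.hom]

include hL in
/-- A family of invisible translations is additive. -/
theorem pc_mul_of_fix [LocallyOfFiniteType C.hom] [IsReduced C.left] (h : W ⟶ A)
    (w₀ : 𝟙_ (Over (Spec (CommRingCat.of K))) ⟶ W) (hw₀ : w₀ ≫ h = 1) (iv : C ⟶ A)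
    (hfix : ∀ c : 𝟙_ (Over (Spec (CommRingCat.of K))) ⟶ C, Fix L h (c ≫ iv)) :
    pc L ((fst W C ≫ h) * (snd W C ≫ iv)) = pc L (fst W C ≫ h) * pc L (snd W C ≫ iv) := by
  haveI : IsLocallyNoetherian C.left := LocallyOfFiniteType.isLocallyNoetherian C.hom
  haveI : JacobsonSpace C.left := LocallyOfFiniteType.jacobsonSpace C.hom
  haveI : GeometricallyIntegral (snd W C).left :=
    MorphismProperty.of_isPullback (isPullback_prod W C) ‹GeometricallyIntegral W.hom›
  haveI : Flat (snd W C).left := flat_snd W C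
  haveI : IsProper (snd W C).left := isProper_snd W C
  haveI : LocallyOfFinitePresentation (snd W C).left := inferInstance
  let Φ : W ⊗ C ⟶ A := (fst W C ≫ h) * (snd W C ≫ iv)
  obtain ⟨a, ha, hha⟩ := exists_inv_pc L hL h
  obtain ⟨N, rfl, hN⟩ := ha
  obtain ⟨b, hb, hLb⟩ := exists_inv_pc L hL iv
  obtain ⟨M, rfl, hM⟩ := hb
  let Λ := CohB1.tensorMod (CohB1.tensorMod ((Scheme.Modules.pullback Φ.left).obj L)
    ((Scheme.Modules.pullback (fst W C).left).obj N)) ((Scheme.Modules.pullback (snd W C).left).obj M)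
  have hΛ : PicF.IsInvertible Λ := Groth.L18.GenLoc.isInvertible_tensor (Groth.L18.GenLoc.isInvertible_tensor
    (Groth.L18.Ample.isInvertible_pullback _ hL) (Groth.L18.Ample.isInvertible_pullback _ hN))
    (Groth.L18.Ample.isInvertible_pullback _ hM)
  have hcl : ∀ {T : Over (Spec (CommRingCat.of K))} (s : T ⟶ W ⊗ C), PicF.pullCl s.left (PicF.cl Λ) =
      pc L ((s ≫ fst W C ≫ h) * (s ≫ snd W C ≫ iv)) * PicF.pullCl (s ≫ fst W C).left (PicF.cl N) *
        PicF.pullCl (s ≫ snd W C).left (PicF.cl M) := fun {T} s => by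
    show PicF.pullCl s.left (pc L Φ * PicF.pullCl (fst W C).left (PicF.cl N) *
      PicF.pullCl (snd W C).left (PicF.cl M)) = _
    rw [pullCl_mul, pullCl_mul, pullCl_pc, ← PicLoc.pullCl_comp, ← PicLoc.pullCl_comp, ← Over.comp_left,
      ← Over.comp_left]
    simp only [Φ, MonObj.comp_mul]
  haveI : Subsingleton (𝟙_ (Over (Spec (CommRingCat.of K)))).left :=
    inferInstanceAs (Subsingleton (PrimeSpectrum K))
  have hconst : ∀ {T Z : Over (Spec (CommRingCat.of K))} (z : 𝟙_ (Over (Spec (CommRingCat.of K))) ⟶ Z)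
      (P : Z.left.Modules), PicF.IsInvertible P → PicF.pullCl (toUnit T ≫ z).left (PicF.cl P) = 1 :=
    fun {T Z} z P hP => by
      rw [Over.comp_left, PicLoc.pullCl_comp, show PicF.pullCl z.left (PicF.cl P) = 1 from
        eq_oneCl_of_subsingleton (PicLoc.isInvertibleCl_pullCl _ ⟨P, rfl, hP⟩), pullCl_one]
  have hclosed : ∀ x : C.left, IsClosed ({x} : Set C.left) →
      Nonempty (CohIII.fiberMod (snd W C).left Λ x ≅ Coh.structureModule ((snd W C).left.fiber x)) := by
    intro x hx
    obtain ⟨c, rfl⟩ := exists_kpt x hx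
    rw [fiber_trivial_iff_slice, nonempty_iso_structure_iff]
    show PicF.pullCl (slice W c).left (PicF.cl Λ) = 1
    rw [hcl, lift_fst_assoc, lift_snd_assoc, lift_fst, lift_snd, hconst c M hM, mul_one, Over.id_left,
      PicLoc.pullCl_id, Category.id_comp, Category.assoc, show pc L (h * (toUnit W ≫ c ≫ iv)) = pc L h from hfix c, hha]
  have hall : ∀ x, Nonempty (CohIII.fiberMod (snd W C).left Λ x ≅ Coh.structureModule ((snd W C).left.fiber x)) :=
    fun x => trivial_on_fibres_of_mem_closure (snd W C).left Λ hΛ (S := closedPoints C.left)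
      (fun v hv => hclosed v (mem_closedPoints_iff.1 hv)) x (by rw [closure_closedPoints]; trivial)
  obtain ⟨e⟩ : Nonempty (Λ ≅ Coh.structureModule (W ⊗ C).left) := by
    obtain ⟨θ₀⟩ : Nonempty ((Scheme.Modules.pullback (lift (toUnit C ≫ w₀) (𝟙 C)).left).obj Λ ≅
        Coh.structureModule C.left) := by
      refine (nonempty_iso_structure_iff _).2 ?_
      show PicF.pullCl (lift (toUnit C ≫ w₀) (𝟙 C)).left (PicF.cl Λ) = 1
      rw [hcl, lift_fst_assoc, lift_snd_assoc, lift_fst, lift_snd, hconst w₀ N hN, mul_one, Over.id_left,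
        PicLoc.pullCl_id, Category.id_comp, Category.assoc, hw₀, MonObj.comp_one, one_mul, hLb]
    exact nonempty_iso_of_trivial_on_fibres (snd W C).left (lift (toUnit C ≫ w₀) (𝟙 C)).left
      (by rw [← Over.comp_left, lift_snd]; rfl) Λ hΛ hall θ₀
  have h1 : pc L Φ * PicF.pullCl (fst W C).left (PicF.cl N) * PicF.pullCl (snd W C).left (PicF.cl M) = 1 :=
    (nonempty_iso_structure_iff Λ).1 ⟨e⟩
  calc pc L Φ = pc L Φ * (PicF.pullCl (fst W C).left (pc L h * PicF.cl N) *
        PicF.pullCl (snd W C).left (pc L iv * PicF.cl M)) := by rw [hha, hLb, pullCl_one, pullCl_one, mul_one, mul_one]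
    _ = (pc L Φ * PicF.pullCl (fst W C).left (PicF.cl N) * PicF.pullCl (snd W C).left (PicF.cl M)) *
        (pc L (fst W C ≫ h) * pc L (snd W C ≫ iv)) := by
      rw [pullCl_mul, pullCl_mul, pullCl_pc, pullCl_pc]
      ac_rfl
    _ = _ := by rw [h1, one_mul]

include hL in
/-- The translations not seen along a proper variety form a closed set. -/
theorem exists_closed_fix (h : W ⟶ A) :
    ∃ Z : Set A.left, IsClosed Z ∧ ∀ b : 𝟙_ (Over (Spec (CommRingCat.of K))) ⟶ A, kpt b ∈ Z ↔ Fix L h b := by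
  haveI : IsLocallyNoetherian A.left := LocallyOfFiniteType.isLocallyNoetherian A.hom
  haveI : GeometricallyIntegral (snd W A).left :=
    MorphismProperty.of_isPullback (isPullback_prod W A) ‹GeometricallyIntegral W.hom›
  haveI : Flat (snd W A).left := flat_snd W A
  haveI : IsProper (snd W A).left := isProper_snd W A
  haveI : LocallyOfFinitePresentation (snd W A).left := inferInstance
  obtain ⟨c, hc, hhc⟩ := exists_inv_pc L hL h
  obtain ⟨N, rfl, hN⟩ := hc
  let Φ : W ⊗ A ⟶ A := (fst W A ≫ h) * snd W A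
  let Λ := CohB1.tensorMod ((Scheme.Modules.pullback Φ.left).obj L) ((Scheme.Modules.pullback (fst W A).left).obj N)
  refine ⟨_, isClosed_trivial_fibres (snd W A).left Λ (Groth.L18.GenLoc.isInvertible_tensor
    (Groth.L18.Ample.isInvertible_pullback _ hL) (Groth.L18.Ample.isInvertible_pullback _ hN)), fun b => ?_⟩
  refine (fiber_trivial_iff_slice b Λ).trans ?_
  rw [nonempty_iso_structure_iff]
  have key : PicF.cl ((Scheme.Modules.pullback (slice W b).left).obj Λ) = pc L (h * cst' W b) * PicF.cl N := by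
    show PicF.pullCl (slice W b).left (pc L Φ * PicF.pullCl (fst W A).left (PicF.cl N)) = _
    rw [pullCl_mul, pullCl_pc, ← PicLoc.pullCl_comp, ← Over.comp_left, lift_fst, Over.id_left, PicLoc.pullCl_id]
    simp only [Φ, MonObj.comp_mul, lift_fst_assoc, lift_snd, Category.id_comp]
  rw [key]
  constructor
  · intro e
    show pc L _ = pc L _
    rw [← one_mul (pc L h), ← e, mul_assoc, mul_comm (PicF.cl N), hhc, mul_one]
  · intro e
    rw [show pc L (h * cst' W b) = pc L h from e, hhc]

/-- Only finitely many translations of an ample module are invisible along a generating map. -/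
theorem finite_fix {X : Over (Spec (CommRingCat.of K))} [IsProper X.hom] (g : X ⟶ A) (M : ℕ)
    (hsum : Surjective (sumPow g M).left) (hLa : CohB1.IsAmple L) :
    Set.Finite {b : 𝟙_ (Over (Spec (CommRingCat.of K))) ⟶ A | Fix L g b} := by
  have hL := hLa.1
  haveI : IsCommMonObj A := isCommMonObj_of_isProper_of_geometricallyIntegral A
  haveI : JacobsonSpace A.left := LocallyOfFiniteType.jacobsonSpace A.hom
  haveI : IsLocallyNoetherian A.left := LocallyOfFiniteType.isLocallyNoetherian A.hom
  haveI : CompactSpace A.left := QuasiCompact.compactSpace_of_compactSpace A.hom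
  haveI : IsNoetherian A.left := {}
  haveI : IsIntegral A.left := GeometricallyIntegral.isIntegral_of_subsingleton A.hom
  haveI := Groth.Agent.L26.AlbProper.isProper_pw X M
  -- an integral subvariety of the power mapping onto `A`
  obtain ⟨y, hy⟩ := hsum.surj (genericPoint A.left)
  let I₀ := Scheme.IdealSheafData.vanishingIdeal (⟨closure {y}, isClosed_closure⟩ : Closeds (pw X M).left)
  haveI : IsIntegral I₀.subscheme := isIntegral_vanishingIdeal _ isIrreducible_singleton.closure
  let W : Over (Spec (CommRingCat.of K)) := Over.mk (I₀.subschemeι ≫ (pw X M).hom)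
  let iW : W ⟶ pw X M := Over.homMk I₀.subschemeι
  haveI : IsClosedImmersion iW.left := inferInstanceAs (IsClosedImmersion I₀.subschemeι)
  haveI : IsProper W.hom := inferInstanceAs (IsProper (I₀.subschemeι ≫ (pw X M).hom))
  haveI : IsIntegral W.left := ‹IsIntegral I₀.subscheme›
  haveI : GeometricallyIntegral W.hom := geometricallyIntegral_of_isAlgClosed _
  let h : W ⟶ A := iW ≫ sumPow g M
  haveI : IsProper h.left := Groth.Agent.L26.AlbProper.isProper_left h
  have hsurj : Function.Surjective h.left := fun z => by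
    have hc : IsClosed (Set.range h.left) := h.left.isClosedMap.isClosed_range
    have hmem : genericPoint A.left ∈ Set.range h.left := by
      obtain ⟨w, hw⟩ : y ∈ Set.range I₀.subschemeι := by
        rw [I₀.range_subschemeι, Scheme.IdealSheafData.coe_support_vanishingIdeal]
        exact subset_closure rfl
      exact ⟨w, by rw [Over.comp_left, Scheme.Hom.comp_apply]; exact (congrArg _ hw).trans hy⟩
    exact hc.closure_subset_iff.2 (Set.singleton_subset_iff.2 hmem)
      ((genericPoint_spec A.left).symm ▸ Set.mem_univ z)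
  have hpts : ∀ a : 𝟙_ (Over (Spec (CommRingCat.of K))) ⟶ A, ∃ w, w ≫ h = a := fun a => by
    obtain ⟨w, hw⟩ := hsurj (kpt a)
    haveI : JacobsonSpace W.left := LocallyOfFiniteType.jacobsonSpace W.hom
    obtain ⟨w', hw', hw'c⟩ := nonempty_inter_closedPoints (Z := h.left ⁻¹' {kpt a}) ⟨w, hw⟩
      ((isClosed_kpt a).preimage h.left.continuous).isLocallyClosed
    obtain ⟨q, rfl⟩ := exists_kpt w' hw'c
    exact ⟨q, kpt_injective ((Scheme.Hom.comp_apply q.left h.left _).trans hw')⟩
  obtain ⟨w₀, hw₀⟩ := hpts 1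
  obtain ⟨Z, hZ, hZb⟩ := exists_closed_fix L hL h
  suffices hfin : (Z ∩ closedPoints A.left).Finite from
    ((hfin.preimage (kpt_injective (A := A)).injOn)).subset fun b hb =>
      ⟨(hZb b).2 (fix_comp L iW (fix_sumPow L hL g hb M)), mem_closedPoints_iff.2 (isClosed_kpt b)⟩
  obtain ⟨S, hS, hSc, hSi, hSu⟩ := NoetherianSpace.exists_finite_set_isClosed_irreducible hZ
  rw [hSu, Set.sUnion_eq_biUnion, Set.iUnion₂_inter]
  refine hS.biUnion fun T hT => ?_
  let I := Scheme.IdealSheafData.vanishingIdeal (⟨T, hSc T hT⟩ : Closeds A.left)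
  haveI : IsIntegral I.subscheme := isIntegral_vanishingIdeal _ (hSi T hT)
  let C : Over (Spec (CommRingCat.of K)) := Over.mk (I.subschemeι ≫ A.hom)
  let iv : C ⟶ A := Over.homMk I.subschemeι rfl
  haveI : IsClosedImmersion iv.left := inferInstanceAs (IsClosedImmersion I.subschemeι)
  haveI : IsProper C.hom := inferInstanceAs (IsProper (I.subschemeι ≫ A.hom))
  haveI : IsIntegral C.left := ‹IsIntegral I.subscheme›
  haveI : GeometricallyIntegral C.hom := geometricallyIntegral_of_isAlgClosed _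
  haveI : IsReduced A.left := inferInstance
  have hrg : T = Set.range iv.left := by
    show T = Set.range I.subschemeι
    rw [I.range_subschemeι, Scheme.IdealSheafData.coe_support_vanishingIdeal]; rfl
  have hmem : ∀ c : 𝟙_ (Over (Spec (CommRingCat.of K))) ⟶ C, Fix L h (c ≫ iv) := fun c => (hZb _).1 (by
    rw [hSu]
    refine ⟨T, hT, ?_⟩
    rw [hrg]
    exact ⟨kpt c, (Scheme.Hom.comp_apply c.left iv.left _).symm⟩)
  -- every translation fixes `L` on `C`
  have hA : ∀ a : 𝟙_ (Over (Spec (CommRingCat.of K))) ⟶ A, pc L (iv * cst' C a) = pc L iv := fun a => by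
    obtain ⟨w, rfl⟩ := hpts a
    have e := congrArg (PicF.pullCl (lift (toUnit C ≫ w) (𝟙 C)).left) (pc_mul_of_fix L hL h w₀ hw₀ iv hmem)
    rw [pullCl_mul, pullCl_pc, pullCl_pc, pullCl_pc, MonObj.comp_mul, lift_fst_assoc, lift_snd_assoc,
      Category.id_comp, Category.assoc, pc_const L hL, one_mul, mul_comm] at e
    exact e
  obtain ⟨z, hz⟩ := (hSi T hT).nonempty
  haveI : JacobsonSpace C.left := LocallyOfFiniteType.jacobsonSpace C.hom
  obtain ⟨p, -, hp⟩ := nonempty_inter_closedPoints (Z := (Set.univ : Set C.left))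
    ⟨(hrg ▸ hz : z ∈ Set.range iv.left).choose, trivial⟩ isClosed_univ.isLocallyClosed
  obtain ⟨c₀, -⟩ := exists_kpt p hp
  let e : 𝟙_ (Over (Spec (CommRingCat.of K))) ⟶ A := (c₀ ≫ iv)⁻¹
  let h' : C ⟶ A := iv * cst' C e
  have hc₀ : c₀ ≫ h' = 1 := by
    show c₀ ≫ (iv * cst' C e) = 1
    rw [MonObj.comp_mul, comp_cst', cst', toUnit_unique (toUnit (𝟙_ (Over (Spec (CommRingCat.of K))))) (𝟙 _),
      Category.id_comp, mul_inv_cancel]
  have hadd := pc_mul_of_fix L hL h' c₀ hc₀ (𝟙 A) fun a => by
    show pc L (iv * cst' C e * cst' C (a ≫ 𝟙 A)) = pc L (iv * cst' C e)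
    rw [Category.comp_id, mul_assoc, cst', cst', ← MonObj.comp_mul]
    exact (hA _).trans (hA e).symm
  have hfix : ∀ c : 𝟙_ (Over (Spec (CommRingCat.of K))) ⟶ C,
      pc L (trK (c ≫ h')) = PicF.cl L := fun c => by
    have e' := congrArg (PicF.pullCl (lift (toUnit A ≫ c) (𝟙 A)).left) hadd
    rw [pullCl_mul, pullCl_pc, pullCl_pc, pullCl_pc, MonObj.comp_mul, lift_fst_assoc, lift_snd_assoc,
      Category.id_comp, Category.assoc, pc_const L hL, one_mul, pc_id, mul_comm] at e'
    exact e'
  refine ((finite_fixed_of_isAmple L hLa).image fun d => kpt (d * e⁻¹)).subset ?_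
  rintro x ⟨hxT, hxc⟩
  obtain ⟨y', hy'⟩ := (hrg ▸ hxT : x ∈ Set.range iv.left)
  have hyc : IsClosed ({y'} : Set C.left) := by
    have h1 := (mem_closedPoints_iff.1 hxc).preimage iv.left.continuous
    rwa [← hy', ← Set.image_singleton, iv.left.isClosedEmbedding.injective.preimage_image] at h1
  obtain ⟨c, rfl⟩ := exists_kpt y' hyc
  refine ⟨c ≫ h', hfix c, ?_⟩
  show kpt ((c ≫ h') * e⁻¹) = x
  rw [show c ≫ h' = (c ≫ iv) * e from by
    show c ≫ (iv * cst' C e) = _
    rw [MonObj.comp_mul, comp_cst', cst', toUnit_unique (toUnit (𝟙_ (Over (Spec (CommRingCat.of K))))) (𝟙 _),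
      Category.id_comp], mul_assoc, mul_inv_cancel, mul_one, ← hy']
  exact Scheme.Hom.comp_apply c.left iv.left _

end Groth.Agent.L26.H1Bound
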