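import Groth.Agent.L26.H1Bound.Alg
import Groth.Agent.L26.H1Bound.Finite
import Groth.Agent.L20.DescLocus.Rep
import Groth.Agent.L02.Canon.DescInvertible
import Groth.Agent.L16.Existence.Vanishing
import Groth.Agent.L29.DCoh.PCQCoh
import Groth.Agent.L18.LocFreeFP
import Groth.Agent.L07.ParaF.StalkOfPair
import Groth.Agent.L08.GrpDim

/-!
# The dimension of a generated abelian variety is at most `h¹(O)`
-/

set_option autoImplicit false
set_option linter.style.haveILetI false
set_option linter.unusedSectionVars false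
set_option backward.isDefEq.respectTransparency false

universe u

open CategoryTheory CategoryTheory.Limits MonoidalCategory CartesianMonoidalCategory AlgebraicGeometry TopologicalSpace
open scoped MonObj

noncomputable section

namespace Groth.Agent.L26.H1Bound

open Groth.L08.Cube Groth.Agent.AbDualLib Groth.Agent.Pic0
open Groth.Agent.L26.AlbSm (pw sumPow)
open Groth.L02.PicTan (TA YA tA σA Tmap)

attribute [local instance] clMonoid

theorem bijective_app_of_toGlobal {k : Type u} [Field k] {Z : Scheme.{u}} (q : Z ⟶ Spec (CommRingCat.of k))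
    (hb : Function.Bijective (Coh.toGlobal q)) (U : (Spec (CommRingCat.of k)).Opens) : Function.Bijective (q.app U) := by
  rcases (Set.eq_empty_or_nonempty (U : Set (Spec (CommRingCat.of k)))) with h | ⟨x, hx⟩
  · obtain rfl : U = ⊥ := Opens.ext h
    haveI : Subsingleton Γ(Z, q ⁻¹ᵁ ⊥) := by
      rw [show q ⁻¹ᵁ (⊥ : (Spec (CommRingCat.of k)).Opens) = ⊥ from rfl]; infer_instance
    exact ⟨fun a b _ => Subsingleton.elim a b, fun b => ⟨0, Subsingleton.elim _ _⟩⟩
  · obtain rfl : U = ⊤ := Opens.ext (Set.eq_univ_of_forall fun y => Subsingleton.elim x y ▸ hx)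
    have he : (Coh.toGlobal q : k → Γ(Z, ⊤)) =
        (fun a => q.appTop a) ∘ (fun a : k => (Scheme.ΓSpecIso (CommRingCat.of k)).inv a) := rfl
    rw [he] at hb
    exact (Function.Bijective.of_comp_iff _
      (ConcreteCategory.bijective_of_isIso (Scheme.ΓSpecIso (CommRingCat.of k)).inv)).1 hb

/-- A morphism from a local spectrum is a map of the stalk at its closed point. -/
theorem exists_eq_fromSpecStalk {Z : Scheme.{u}} {R : CommRingCat.{u}} [IsLocalRing R] (w : Spec R ⟶ Z) (z : Z)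
    (h : w (IsLocalRing.closedPoint R) = z) : ∃ χ : Z.presheaf.stalk z ⟶ R, w = Spec.map χ ≫ Z.fromSpecStalk z := by
  subst h
  exact ⟨_, (Scheme.Spec_stalkClosedPointTo_fromSpecStalk w).symm⟩

variable {K : Type u} [Field K] [IsAlgClosed K] {X A : Over (Spec (CommRingCat.of K))} [IsProper X.hom] [GrpObj A]
  [IsProper A.hom] [GeometricallyIntegral A.hom] (L : A.left.Modules)

/-- The translations by a family of points are invisible along `g`, up to the base. -/
def Triv (g : X ⟶ A) {T : Over (Spec (CommRingCat.of K))} (u : T ⟶ A) : Prop :=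
  ∃ c : PicF.Cl T.left, PicF.IsInvertibleCl c ∧
    pc L ((fst X T ≫ g) * (snd X T ≫ u)) = pc L (fst X T ≫ g) * PicF.pullCl (snd X T).left c

/-- The invisible translations are represented by a subscheme. -/
theorem exists_seesaw (hL : PicF.IsInvertible L) (hq0 : Function.Bijective (Coh.toGlobal X.hom)) (g : X ⟶ A)
    (x₀ : 𝟙_ (Over (Spec (CommRingCat.of K))) ⟶ X) :
    ∃ (Z : Scheme.{u}) (j : Z ⟶ A.left), IsImmersion j ∧ LocallyOfFiniteType j ∧
      ∀ (T : Over (Spec (CommRingCat.of K))) (u : T ⟶ A), Triv L g u ↔ ∃ w : T.left ⟶ Z, w ≫ j = u.left := by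
  haveI : IsLocallyNoetherian A.left := LocallyOfFiniteType.isLocallyNoetherian A.hom
  let f := (snd X A).left
  haveI : IsProper f := isProper_snd X A
  haveI : Flat f := flat_snd X A
  haveI : LocallyOfFinitePresentation f := inferInstance
  haveI := Groth.L17.PushQCoh.hasInjectiveResolutions (X ⊗ A).left
  have hO : ∀ (T : Scheme.{u}) (v : T ⟶ A.left) (U : T.Opens), IsIso ((pullback.snd f v).app U) := fun T v U => by
    rw [ConcreteCategory.isIso_iff_bijective]
    exact Groth.L02.Canon.DescInvertible.bijective_app_of_flat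
      ((IsPullback.of_hasPullback f v).paste_horiz (isPullback_prod X A))
      (bijective_app_of_toGlobal X.hom hq0) U
  obtain ⟨a, ha, hga⟩ := exists_inv_pc L hL g
  obtain ⟨N, rfl, hN⟩ := ha
  let Φ : X ⊗ A ⟶ A := (fst X A ≫ g) * snd X A
  let Λ := CohB1.tensorMod ((Scheme.Modules.pullback Φ.left).obj L) ((Scheme.Modules.pullback (fst X A).left).obj N)
  have hΛ : PicF.IsInvertible Λ := Groth.L18.GenLoc.isInvertible_tensor
    (Groth.L18.Ample.isInvertible_pullback _ hL) (Groth.L18.Ample.isInvertible_pullback _ hN)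
  have hE : FlatMod.IsFinLocFree Λ := Groth.L16.Existence.isFinLocFree_of_isInvertible hΛ
  haveI : Coh.IsQCoh Λ := Groth.L29.DC.PCQCoh.isQCoh_of_isFinLocFree hE
  have hfp : CohB1.IsFP Λ := Groth.L18.LFP.isFP_of_isFinLocFree Λ hE
  have hfl : FlatMod.IsFlatOver f Λ :=
    Groth.L29.DC.RelTor.isFlatOver_of_isFlat f (Groth.L21.RR.isFlat_of_isInvertible hΛ)
  obtain ⟨Z, j, hj, hj', huniv⟩ := Groth.L20.DescLocus.exists_subscheme f Λ hO hfp hfl hE
  haveI := hj'
  refine ⟨Z, j, hj, inferInstance, fun T u => ?_⟩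
  have sq := isPullback_whiskerLeft X u
  let e := sq.isoPullback
  have hcl : PicF.pullCl (X ◁ u).left (PicF.cl Λ) =
      pc L ((fst X T ≫ g) * (snd X T ≫ u)) * PicF.pullCl (fst X T).left (PicF.cl N) := by
    show PicF.pullCl (X ◁ u).left (pc L Φ * PicF.pullCl (fst X A).left (PicF.cl N)) = _
    rw [pullCl_mul, pullCl_pc, ← PicLoc.pullCl_comp, ← Over.comp_left, whiskerLeft_fst]
    simp only [Φ, MonObj.comp_mul, whiskerLeft_fst_assoc, whiskerLeft_snd]
  have hcl' : PicF.pullCl e.hom (PicF.cl ((Scheme.Modules.pullback (pullback.fst f u.left)).obj Λ)) =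
      PicF.pullCl (X ◁ u).left (PicF.cl Λ) := by
    show PicF.pullCl e.hom (PicF.pullCl (pullback.fst f u.left) (PicF.cl Λ)) = _
    rw [← PicLoc.pullCl_comp, IsPullback.isoPullback_hom_fst]
  have hfact : pc L (fst X T ≫ g) * PicF.pullCl (fst X T).left (PicF.cl N) = 1 := by
    rw [← pullCl_pc L (fst X T) g, ← pullCl_mul, hga, pullCl_one]
  constructor
  · rintro ⟨c, ⟨P, rfl, hP⟩, hc⟩
    refine (huniv T.left u.left).2 ((Groth.L20.DescLocus.desc_iff f Λ hO hfp hfl hE u.left).2
      ⟨P, Groth.L16.Existence.isFinLocFree_of_isInvertible hP, ?_⟩)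
    refine (PicGrp.cl_eq_cl_iff _ _).1 ?_
    have h1 : PicF.pullCl e.hom (PicF.pullCl (pullback.snd f u.left) (PicF.cl P)) =
        PicF.pullCl e.hom (PicF.cl ((Scheme.Modules.pullback (pullback.fst f u.left)).obj Λ)) := by
      rw [hcl', hcl, hc, ← PicLoc.pullCl_comp, IsPullback.isoPullback_hom_snd,
        mul_assoc, mul_comm (PicF.pullCl (snd X T).left _), ← mul_assoc, hfact, one_mul]
    have h2 := congrArg (PicF.pullCl e.inv) h1
    have hinj : ∀ x : PicF.Cl (pullback f u.left), PicF.pullCl e.inv (PicF.pullCl e.hom x) = x := fun x => by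
      rw [← PicLoc.pullCl_comp, e.inv_hom_id, PicLoc.pullCl_id]
    exact (hinj _).symm.trans (h2.trans (hinj _))
  · intro hw
    obtain ⟨P, -, ⟨θ⟩⟩ := (Groth.L20.DescLocus.desc_iff f Λ hO hfp hfl hE u.left).1 ((huniv T.left u.left).1 hw)
    have h0 : PicF.pullCl (pullback.snd f u.left) (PicF.cl P) =
        PicF.cl ((Scheme.Modules.pullback (pullback.fst f u.left)).obj Λ) := (PicGrp.cl_eq_cl_iff _ _).2 ⟨θ⟩
    have h1 : PicF.pullCl (snd X T).left (PicF.cl P) =
        pc L ((fst X T ≫ g) * (snd X T ≫ u)) * PicF.pullCl (fst X T).left (PicF.cl N) := by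
      rw [← hcl, ← hcl', ← h0, ← PicLoc.pullCl_comp, IsPullback.isoPullback_hom_snd]
    have hinv : PicF.IsInvertibleCl (PicF.cl P) := by
      have hs : PicF.pullCl (lift (toUnit T ≫ x₀) (𝟙 T)).left (PicF.pullCl (snd X T).left (PicF.cl P)) = PicF.cl P := by
        rw [← PicLoc.pullCl_comp, ← Over.comp_left, lift_snd, Over.id_left, PicLoc.pullCl_id]
      rw [← hs, h1]
      exact PicLoc.isInvertibleCl_pullCl _ (isInvertibleCl_mulCl (isInvertibleCl_pc L hL _)
        (PicLoc.isInvertibleCl_pullCl _ ⟨N, rfl, hN⟩))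
    refine ⟨_, hinv, ?_⟩
    rw [h1, mul_comm (pc L (fst X T ≫ g)), mul_assoc, mul_comm (PicF.pullCl (fst X T).left _), hfact, mul_one]

theorem fix_of_triv (g : X ⟶ A) {b : 𝟙_ (Over (Spec (CommRingCat.of K))) ⟶ A} (h : Triv L g b) : Fix L g b := by
  obtain ⟨c, hc, he⟩ := h
  haveI : Subsingleton (𝟙_ (Over (Spec (CommRingCat.of K)))).left :=
    inferInstanceAs (Subsingleton (PrimeSpectrum K))
  rw [show c = 1 from eq_oneCl_of_subsingleton hc, pullCl_one, mul_one] at he
  have e := congrArg (PicF.pullCl (lift (𝟙 X) (toUnit X)).left) he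
  rw [pullCl_pc, pullCl_pc, MonObj.comp_mul, lift_fst_assoc, lift_snd_assoc, Category.id_comp] at e
  exact e

theorem triv_comp (g : X ⟶ A) {T T' : Over (Spec (CommRingCat.of K))} (s : T' ⟶ T) {u : T ⟶ A}
    (h : Triv L g u) : Triv L g (s ≫ u) := by
  obtain ⟨c, hc, he⟩ := h
  refine ⟨PicF.pullCl s.left c, PicLoc.isInvertibleCl_pullCl _ hc, ?_⟩
  have e := congrArg (PicF.pullCl (X ◁ s).left) he
  rw [pullCl_mul, pullCl_pc, pullCl_pc, ← PicLoc.pullCl_comp, ← Over.comp_left, whiskerLeft_snd, Over.comp_left,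
    PicLoc.pullCl_comp, MonObj.comp_mul, whiskerLeft_fst_assoc, whiskerLeft_snd_assoc] at e
  exact e

variable {R : Type u} [CommRing R] [Algebra K R]

/-- Over a local base invisibility means triviality. -/
theorem triv_iff_of_local [IsLocalRing R] (g : X ⟶ A) (u : TA (k := K) K R ⟶ A) :
    Triv L g u ↔ pc L ((fst X (TA K R) ≫ g) * (snd X (TA K R) ≫ u)) = pc L (fst X (TA K R) ≫ g) := by
  constructor
  · rintro ⟨c, ⟨P, rfl, hP⟩, he⟩
    rw [he, show PicF.cl P = 1 from (PicGrp.cl_eq_cl_iff _ _).2 (Groth.L07.ParaF.trivial_of_local P hP), pullCl_one,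
      mul_one]
  · intro h
    refine ⟨1, ⟨Coh.structureModule _, rfl, Groth.L18.Ample.isInvertible_structureModule _⟩, ?_⟩
    rw [pullCl_one, mul_one]
    exact h

theorem whiskerLeft_Tmap {R' : Type u} [CommRing R'] [Algebra K R'] (χ : R' →ₐ[K] R) :
    (X ◁ Tmap (k := K) χ).left = σA X.hom χ := by
  apply (isPullback_prod X (TA (k := K) K R')).hom_ext
  · rw [← Over.comp_left, whiskerLeft_fst]
    exact (Groth.L02.PicEtale.XTmap_fst X.hom (Tmap (k := K) χ)).symm
  · rw [← Over.comp_left, whiskerLeft_snd]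
    exact (Groth.L02.PicEtale.XTmap_snd X.hom (Tmap (k := K) χ)).symm

/-- A scheme with finitely many closed points and Jacobson space has zero-dimensional local rings. -/
theorem subsingleton_primeSpectrum_stalk (Z : Scheme.{u}) [JacobsonSpace Z] (hfin : (closedPoints Z).Finite) (z₀ : Z) :
    Subsingleton (PrimeSpectrum (Z.presheaf.stalk z₀)) := by
  have hc : IsClosed (closedPoints Z) := by
    rw [← Set.biUnion_of_singleton (closedPoints Z)]
    exact hfin.isClosed_biUnion fun z hz => mem_closedPoints_iff.1 hz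
  have huniv : closedPoints Z = Set.univ := by rw [← hc.closure_eq, closure_closedPoints]
  have hgen : ∀ y : Spec (Z.presheaf.stalk z₀), Z.fromSpecStalk z₀ y = z₀ := fun y => by
    have hs : Z.fromSpecStalk z₀ y ⤳ z₀ :=
      (Set.ext_iff.1 (Scheme.range_fromSpecStalk (x := z₀)) (Z.fromSpecStalk z₀ y)).1 ⟨y, rfl⟩
    have hcl : IsClosed ({Z.fromSpecStalk z₀ y} : Set Z) :=
      mem_closedPoints_iff.1 (huniv.symm ▸ Set.mem_univ _)
    exact (Set.mem_singleton_iff.1 (hs.mem_closed hcl rfl)).symm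
  exact ⟨fun p q => (Z.fromSpecStalk z₀).isEmbedding.injective ((hgen p).trans (hgen q).symm)⟩

/-- Invisibility over local algebras is the triviality of one module. -/
theorem exists_module (hL : PicF.IsInvertible L) (g : X ⟶ A) {R' : Type u} [CommRing R'] [Algebra K R']
    (u : TA (k := K) K R' ⟶ A) :
    ∃ M : (YA X.hom K R').Modules, PicF.IsInvertible M ∧
      ∀ (S : Type u) [CommRing S] [Algebra K S] [IsLocalRing S] (χ : R' →ₐ[K] S),
        Nonempty ((Scheme.Modules.pullback (σA X.hom χ)).obj M ≅ Coh.structureModule (YA X.hom K S)) ↔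
          Triv L g (Tmap (k := K) χ ≫ u) := by
  obtain ⟨N, hN, hNe⟩ : ∃ N : A.left.Modules, PicF.IsInvertible N ∧ PicF.cl L * PicF.cl N = 1 := by
    obtain ⟨N, hN, ⟨e⟩⟩ := exists_inverse hL
    exact ⟨N, hN, cl_congr e⟩
  let M₀ := CohB1.tensorMod ((Scheme.Modules.pullback ((fst X (TA (k := K) K R') ≫ g) * (snd X (TA (k := K) K R') ≫ u)).left).obj L)
    ((Scheme.Modules.pullback (fst X (TA (k := K) K R') ≫ g).left).obj N)
  refine ⟨M₀, Groth.L18.GenLoc.isInvertible_tensor
    (Groth.L18.Ample.isInvertible_pullback _ hL) (Groth.L18.Ample.isInvertible_pullback _ hN), fun S _ _ _ χ => ?_⟩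
  rw [triv_iff_of_local, nonempty_iso_structure_iff]
  have key : PicF.cl ((Scheme.Modules.pullback (σA X.hom χ)).obj M₀) =
      pc L ((fst X (TA (k := K) K S) ≫ g) * (snd X (TA (k := K) K S) ≫ Tmap (k := K) χ ≫ u)) *
        PicF.pullCl (fst X (TA (k := K) K S) ≫ g).left (PicF.cl N) := by
    rw [← whiskerLeft_Tmap χ]
    show PicF.pullCl (X ◁ Tmap (k := K) χ).left (pc L _ * PicF.pullCl _ (PicF.cl N)) = _
    rw [pullCl_mul, pullCl_pc, ← PicLoc.pullCl_comp, ← Over.comp_left, MonObj.comp_mul, whiskerLeft_fst_assoc,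
      whiskerLeft_snd_assoc]
  have hgN : pc L (fst X (TA (k := K) K S) ≫ g) * PicF.pullCl (fst X (TA (k := K) K S) ≫ g).left (PicF.cl N) = 1 := by
    show PicF.pullCl _ (PicF.cl L) * _ = 1
    rw [← pullCl_mul, hNe, pullCl_one]
  rw [key]
  constructor
  · intro h
    calc pc L ((fst X (TA (k := K) K S) ≫ g) * (snd X (TA (k := K) K S) ≫ Tmap (k := K) χ ≫ u))
        = _ * (pc L (fst X (TA (k := K) K S) ≫ g) * PicF.pullCl (fst X (TA (k := K) K S) ≫ g).left (PicF.cl N)) := by
          rw [hgN, mul_one]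
      _ = pc L (fst X (TA (k := K) K S) ≫ g) := by rw [mul_left_comm, h, mul_one]
  · intro h
    rw [h, hgN]

theorem nonempty_aug {S : Type u} [CommRing S] (φ : K →+* S) (e : S →+* K) (h : ∀ c, e (φ c) = c) :
    letI := φ.toAlgebra
    Nonempty (S →ₐ[K] K) :=
  letI := φ.toAlgebra
  ⟨{ e with commutes' := h }⟩

/-- A generated abelian variety has dimension at most the first cohomology of the structure sheaf. -/
theorem dim_le (hq0 : Function.Bijective (Coh.toGlobal X.hom)) (g : X ⟶ A)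
    (x₀ : 𝟙_ (Over (Spec (CommRingCat.of K))) ⟶ X) (M : ℕ) (hsum : Surjective (sumPow g M).left) :
    letI : Module K (Coh.HH (YA X.hom K K) (Coh.structureModule (YA X.hom K K)) 1) :=
      Module.compHom _ (Coh.toGlobal (tA X.hom K K))
    topologicalKrullDim ↥A.left ≤
      (Module.finrank K (Coh.HH (YA X.hom K K) (Coh.structureModule (YA X.hom K K)) 1) : WithBot ℕ∞) := by
  letI : Module K (Coh.HH (YA X.hom K K) (Coh.structureModule (YA X.hom K K)) 1) :=
    Module.compHom _ (Coh.toGlobal (tA X.hom K K))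
  haveI : IsCommMonObj A := isCommMonObj_of_isProper_of_geometricallyIntegral A
  obtain ⟨L, hLa⟩ := Groth.Agent.AV.Degree.exists_isAmple A
  have hL := hLa.1
  obtain ⟨Z, j, _, _, hZ⟩ := exists_seesaw L hL hq0 g x₀
  haveI : IsLocallyNoetherian A.left := LocallyOfFiniteType.isLocallyNoetherian A.hom
  haveI : LocallyOfFiniteType (j ≫ A.hom) := inferInstance
  haveI : JacobsonSpace Z := LocallyOfFiniteType.jacobsonSpace (j ≫ A.hom)
  haveI : JacobsonSpace A.left := LocallyOfFiniteType.jacobsonSpace A.hom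
  let ZO : Over (Spec (CommRingCat.of K)) := Over.mk (j ≫ A.hom)
  haveI : LocallyOfFiniteType ZO.hom := inferInstanceAs (LocallyOfFiniteType (j ≫ A.hom))
  let jO : ZO ⟶ A := Over.homMk j rfl
  have hfin : (closedPoints Z).Finite := by
    refine Set.Finite.of_finite_image ?_ j.isEmbedding.injective.injOn
    refine ((finite_fix L g M hsum hLa).image fun b => kpt b).subset ?_
    rintro _ ⟨z, hz, rfl⟩
    obtain ⟨w, hw⟩ := exists_kpt (A := ZO) z (mem_closedPoints_iff.1 hz)
    exact ⟨w ≫ jO, fix_of_triv L g ((hZ _ _).2 ⟨w.left, rfl⟩),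
      (Scheme.Hom.comp_apply w.left j _).trans (congrArg _ hw)⟩
  obtain ⟨w₀, hw₀⟩ : ∃ w₀ : Spec (CommRingCat.of K) ⟶ Z, w₀ ≫ j = (1 : 𝟙_ (Over (Spec (CommRingCat.of K))) ⟶ A).left := by
    refine (hZ _ (1 : 𝟙_ (Over (Spec (CommRingCat.of K))) ⟶ A)).1
      ⟨1, ⟨Coh.structureModule _, rfl, Groth.L18.Ample.isInvertible_structureModule _⟩, ?_⟩
    rw [pullCl_one, mul_one, MonObj.comp_one, mul_one]
  let z₀ : Z := w₀ (IsLocalRing.closedPoint K)
  let o : A.left := j z₀
  have ho : IsClosed ({o} : Set A.left) := by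
    have h := isClosed_kpt (1 : 𝟙_ (Over (Spec (CommRingCat.of K))) ⟶ A)
    rw [kpt, ← hw₀, Scheme.Hom.comp_apply] at h
    exact h
  let O : Type u := A.left.presheaf.stalk o
  let φ0 : CommRingCat.of K ⟶ A.left.presheaf.stalk o := Spec.preimage (A.left.fromSpecStalk o ≫ A.hom)
  have hφ0 : Spec.map φ0 = A.left.fromSpecStalk o ≫ A.hom := Spec.map_preimage _
  let ε0 : A.left.presheaf.stalk o ⟶ CommRingCat.of K := Scheme.stalkClosedPointTo (w₀ ≫ j)
  have hε0 : φ0 ≫ ε0 = 𝟙 _ := by
    apply Spec.map_injective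
    rw [Spec.map_comp, hφ0, Spec.map_id, ← Category.assoc]
    refine (congrArg (· ≫ A.hom) (Scheme.Spec_stalkClosedPointTo_fromSpecStalk (w₀ ≫ j))).trans ?_
    rw [hw₀]
    exact Over.w (1 : 𝟙_ (Over (Spec (CommRingCat.of K))) ⟶ A)
  letI : Algebra K O := φ0.hom.toAlgebra
  obtain ⟨εa⟩ : Nonempty (O →ₐ[K] K) :=
    nonempty_aug (S := O) φ0.hom ε0.hom (fun c => ConcreteCategory.congr_hom hε0 c)
  haveI : IsNoetherianRing O := inferInstanceAs (IsNoetherianRing (A.left.presheaf.stalk o))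
  haveI : IsLocalRing O := inferInstanceAs (IsLocalRing (A.left.presheaf.stalk o))
  let π : O →+* Z.presheaf.stalk z₀ := (j.stalkMap z₀).hom
  have hπ : Function.Surjective π := j.stalkMap_surjective z₀
  let I : Ideal O := RingHom.ker π
  have hImx : I ≤ IsLocalRing.maximalIdeal O := IsLocalRing.le_maximalIdeal (RingHom.ker_ne_top π)
  have hrad : ∀ p : Ideal O, p.IsPrime → I ≤ p → p = IsLocalRing.maximalIdeal O := fun p hp hIp => by
    haveI := subsingleton_primeSpectrum_stalk Z hfin z₀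
    haveI : (p.map π).IsPrime := Ideal.map_isPrime_of_surjective hπ hIp
    have e : p.map π = IsLocalRing.maximalIdeal (Z.presheaf.stalk z₀) :=
      congrArg PrimeSpectrum.asIdeal (Subsingleton.elim (⟨p.map π, inferInstance⟩ : PrimeSpectrum (Z.presheaf.stalk z₀))
        ⟨IsLocalRing.maximalIdeal (Z.presheaf.stalk z₀), inferInstance⟩)
    have hmax : (p.map π).IsMaximal := e.symm ▸ IsLocalRing.maximalIdeal.isMaximal _
    have h := Ideal.comap_isMaximal_of_surjective π hπ (K := p.map π) (H := hmax)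
    rw [Ideal.comap_map_of_surjective π hπ] at h
    rw [sup_eq_left.2 (show Ideal.comap π ⊥ ≤ p from hIp)] at h
    exact IsLocalRing.eq_maximalIdeal h
  obtain ⟨J, hJI, a, m, v, co, hse, hdim⟩ := exists_smallExt εa I hImx hrad
  refine le_trans ?_ (le_trans hdim ?_)
  · rw [← Groth.L08.GrpDim.ringKrullDim_stalk A o ho]
  suffices hm : m ≤ Module.finrank K (Coh.HH (YA X.hom K K) (Coh.structureModule (YA X.hom K K)) 1) by
    exact_mod_cast hm
  by_contra hlt
  let u : TA (k := K) K (O ⧸ J) ⟶ A :=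
    Over.homMk (Spec.map (CommRingCat.ofHom (Ideal.Quotient.mk J)) ≫ A.left.fromSpecStalk o) (by
      rw [Category.assoc, ← hφ0, ← Spec.map_comp]
      rfl)
  obtain ⟨M₀, hM₀, hpull⟩ := exists_module L hL g u
  haveI : Nontrivial (O ⧸ I) := Ideal.Quotient.nontrivial_iff.2 (RingHom.ker_ne_top π)
  haveI : IsLocalRing (O ⧸ I) := IsLocalRing.of_surjective' _ Ideal.Quotient.mk_surjective
  haveI : IsLocalRing (O ⧸ J) := by
    haveI : Nontrivial (O ⧸ J) := RingHom.domain_nontrivial (Ideal.Quotient.factorₐ K hJI).toRingHom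
    exact IsLocalRing.of_surjective' _ Ideal.Quotient.mk_surjective
  obtain ⟨θ⟩ := (hpull _ (Ideal.Quotient.factorₐ K hJI)).2 (by
    refine (hZ _ _).2 ⟨Spec.map (CommRingCat.ofHom (RingHom.quotientKerEquivOfSurjective hπ).symm.toRingHom) ≫
      Z.fromSpecStalk z₀, ?_⟩
    rw [Category.assoc, ← Scheme.SpecMap_stalkMap_fromSpecStalk, ← Spec.map_comp_assoc]
    show Spec.map _ ≫ A.left.fromSpecStalk o =
      Spec.map (CommRingCat.ofHom (Ideal.Quotient.factorₐ K hJI).toRingHom) ≫
        Spec.map (CommRingCat.ofHom (Ideal.Quotient.mk J)) ≫ A.left.fromSpecStalk o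
    rw [← Spec.map_comp_assoc]
    congr 2
    ext x
    exact (RingHom.quotientKerEquivOfSurjective hπ).symm_apply_eq.2 rfl)
  obtain ⟨α, hα, hχ⟩ := exists_trivial_quotient hse M₀ hM₀ θ (not_le.1 hlt)
  obtain ⟨W, _, ε, hεε, hχv, i, hiW⟩ := exists_hyperplane hse α hα
  obtain ⟨w, hw⟩ := (hZ _ _).1 ((hpull _ (Ideal.Quotient.mkₐ K W)).1 (hχ _ (Ideal.Quotient.mkₐ K W) ε hεε hχv))
  let qW : O →+* (O ⧸ J) ⧸ W := (Ideal.Quotient.mkₐ K W).toRingHom.comp (Ideal.Quotient.mk J)
  have hw' : w ≫ j = Spec.map (CommRingCat.ofHom qW) ≫ A.left.fromSpecStalk o := by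
    rw [hw, CommRingCat.ofHom_comp, Spec.map_comp, Category.assoc]
    rfl
  have hwz : w (IsLocalRing.closedPoint ((O ⧸ J) ⧸ W)) = z₀ := by
    refine j.isEmbedding.injective ?_
    rw [← Scheme.Hom.comp_apply, hw', Scheme.Hom.comp_apply]
    haveI : IsLocalHom qW := IsLocalHom.of_surjective _
      ((Ideal.Quotient.mk_surjective (I := W)).comp Ideal.Quotient.mk_surjective)
    exact (congrArg _ (IsLocalRing.comap_closedPoint qW)).trans Scheme.fromSpecStalk_closedPoint
  obtain ⟨χ', hχ'⟩ := exists_eq_fromSpecStalk w z₀ hwz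
  rw [hχ', Category.assoc, ← Scheme.SpecMap_stalkMap_fromSpecStalk, ← Spec.map_comp_assoc] at hw'
  have hring := Spec.map_injective ((cancel_mono _).1 hw')
  refine hiW ?_
  obtain ⟨y, hy⟩ := Ideal.Quotient.mk_surjective (v i)
  have hy0 : π y = 0 := by
    have h : Ideal.Quotient.factorₐ K hJI (Ideal.Quotient.mk J y) = 0 := by rw [hy]; exact hse.map_v i
    exact Ideal.Quotient.eq_zero_iff_mem.1 h
  refine Ideal.Quotient.eq_zero_iff_mem.1 ?_
  rw [← hy]
  refine (ConcreteCategory.congr_hom hring y).symm.trans ?_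
  show χ'.hom (π y) = 0
  rw [hy0, map_zero]

end Groth.Agent.L26.H1Bound
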